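import Cfsg.Agent.H786.CaseA3
import Cfsg.Agent.H779.NPCFinal

/-!
# The core lemma (helper786)
-/

set_option autoImplicit false
set_option linter.unusedSectionVars false

namespace Cfsg.Agent.H786

open Subgroup Cfsg.Agent.H467.MaxClass Cfsg.Agent.H785
open scoped commutatorElement

universe u v

namespace Cfg

variable {P : Type u} [Group P] [Finite P] {p n : ℕ} [hp : Fact p.Prime] {W : ℕ → Subgroup P}
  [hW1 : (W 1).Normal] {A : Subgroup (MulAut (W 1))} {E V : Subgroup P} {Γ : Type v} [Group Γ]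
  [Finite Γ] {ρ : Γ →* MulAut V} {H : Subgroup Γ} {τ : (normalizer (E : Set P)) →* Γ}

/-- there is an `A`-invariant `W i` central in `W 1` and inside `V` -/
theorem exists_omega (c : Cfg p n W A E V ρ H τ) :
    ∃ i, 1 ≤ i ∧ i < n ∧ W i ≤ V ∧ ⁅W i, W 1⁆ = ⊥ ∧ AInv A (W i) := by
  have h4 := c.mc.four_le
  let Z : Subgroup P :=
    { carrier := {x | x ∈ W 1 ∧ x ^ p = 1 ∧ ∀ w ∈ W 1, Commute x w}
      one_mem' := ⟨one_mem _, one_pow _, fun w _ => Commute.one_left w⟩
      mul_mem' := by
        rintro x y ⟨hx, hxp, hxc⟩ ⟨hy, hyp, hyc⟩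
        refine ⟨mul_mem hx hy, ?_, fun w hw => (hxc w hw).mul_left (hyc w hw)⟩
        rw [(hxc y hy).mul_pow, hxp, hyp, mul_one]
      inv_mem' := by
        rintro x ⟨hx, hxp, hxc⟩
        exact ⟨inv_mem hx, by rw [inv_pow, hxp, inv_one], fun w hw => (hxc w hw).inv_left⟩ }
  have hZ : ∀ x, x ∈ Z ↔ x ∈ W 1 ∧ x ^ p = 1 ∧ ∀ w ∈ W 1, Commute x w := fun _ => Iff.rfl
  have hZn : Z.Normal := by
    refine ⟨fun x hx s => ?_⟩
    rw [hZ] at hx ⊢
    obtain ⟨h1, h2, h3⟩ := hx
    refine ⟨hW1.conj_mem x h1 s, ?_, fun w hw => ?_⟩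
    · rw [conj_pow, h2, mul_one, mul_inv_cancel]
    · have h5 := h3 _ (hW1.conj_mem w hw s⁻¹)
      rw [inv_inv] at h5
      have h6 : s * (x * (s⁻¹ * w * s)) * s⁻¹ = s * (s⁻¹ * w * s * x) * s⁻¹ := by rw [h5.eq]
      show s * x * s⁻¹ * w = w * (s * x * s⁻¹)
      calc s * x * s⁻¹ * w = s * (x * (s⁻¹ * w * s)) * s⁻¹ := by group
        _ = s * (s⁻¹ * w * s * x) * s⁻¹ := h6
        _ = w * (s * x * s⁻¹) := by group
  have hZle : Z ≤ W 1 := fun x hx => hx.1
  obtain ⟨i, hi1, hin, hZi⟩ := c.mc.exists_eq_W hZn le_rfl hZle (by omega)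
  have hcen : ⁅W i, W 1⁆ = ⊥ := by
    rw [← hZi, eq_bot_iff, commutator_le]
    intro x hx w hw
    rw [mem_bot, commutatorElement_eq_one_iff_commute]
    exact hx.2.2 w hw
  have hin' : i < n := by
    rcases Nat.lt_or_ge i n with h | h
    · exact h
    exfalso
    -- `W (n - 1) ≤ Z`
    have h5 : W (n - 1) ≤ Z := by
      intro x hx
      refine ⟨c.mc.antitone (by omega) hx, ?_, fun w _ => c.mc.center_le hx w⟩
      exact c.V_pow (c.W_sub_one_le_V hx)
    rw [hZi, c.mc.bot_of_le h] at h5
    exact c.mc.ne_bot (by omega) (eq_bot_iff.mpr h5)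
  refine ⟨i, hi1, hin', c.le_V hcen (fun b hb => ?_), hcen, ?_⟩
  · rw [← hZi] at hb
    exact hb.2.1
  · rw [← hZi, aInv_iff]
    rintro α - x hx ⟨-, h2, h3⟩
    refine ⟨ap_mem α x, ?_, ?_⟩
    · have h5 : ∀ k : ℕ, ap α (x ^ k) = ap α x ^ k := by
        intro k
        induction k with
        | zero => rw [pow_zero, pow_zero, ap_one]
        | succ k ih => rw [pow_succ, pow_succ, ap_mul α (pow_mem hx k) hx, ih]
      rw [← h5, h2, ap_one]
    · intro w hw
      obtain ⟨w', hw'⟩ := α.surjective ⟨w, hw⟩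
      have h5 : w = ap α (w' : P) := by rw [ap_coe, hw']
      rw [h5]
      show ap α x * ap α (w' : P) = ap α (w' : P) * ap α x
      rw [← ap_mul α hx w'.2, ← ap_mul α w'.2 hx, (h3 w' w'.2).eq]

/-- The core lemma, assuming that `N_P(E)/E` is faithful on `V` and the kernel of `Γ` on `V` lies in
`H`. -/
theorem concl_aux (c : Cfg p n W A E V ρ H τ)
    (hf : ∀ s ∈ normalizer (E : Set P), (∀ v ∈ V, Commute s v) → s ∈ E) (hρ : ρ.ker ≤ H) :
    Concl n W A V ρ := by
  have h4 := c.mc.four_le
  have h5 := c.five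
  have hCV : ∀ s : P, (∀ v ∈ V, Commute s v) → s ∈ E := fun s hs => c.mem_E_of_commute hf hs
  obtain ⟨a, ha1, han, hVa, v, hvV, hva⟩ := c.exists_a
  obtain ⟨hDq, hDq'⟩ := c.range_le ha1 hvV (hVa hvV) hva
  obtain ⟨t, ht2, htn, hWtE, z, hzW, hzE⟩ := c.exists_t
  have hWT : W (t - 1) ≤ normalizer (E : Set P) := fun s hs =>
    c.mem_T (by omega) (by rw [show t - 1 + 2 = t + 1 by omega]; exact (c.mc.le_succ t).trans hWtE) hs
  have hzT : z ∈ normalizer (E : Set P) := hWT hzW
  have hzt : z ∉ W t := fun h => hzE (hWtE h)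
  -- `[W a, W t] = 1`
  have hbot : ⁅W a, W t⁆ = ⊥ := by
    have hCn : (Subgroup.centralizer (W t : Set P)).Normal := by
      have := c.mc.normal t
      infer_instance
    have hWaC : W a ≤ Subgroup.centralizer (W t : Set P) := by
      have hN : (W a ⊓ Subgroup.centralizer (W t : Set P)).Normal := by
        have := c.mc.normal a
        infer_instance
      have h6 : W a ⊓ Subgroup.centralizer (W t : Set P) = W a := by
        apply c.mc.eq_W_of_normal hN ha1 inf_le_left
        intro h7
        apply hva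
        apply h7
        exact ⟨hVa hvV, mem_centralizer_iff.mpr fun w hw => (c.V_comm hvV (hWtE hw)).eq⟩
      rw [← h6]
      exact inf_le_right
    rw [eq_bot_iff, commutator_le]
    intro x hx w hw
    rw [mem_bot, commutatorElement_eq_one_iff_commute]
    have := mem_centralizer_iff.mp (hWaC hx) w hw
    exact this.symm
  have hzV : ∃ v ∈ V, ¬ Commute z v := by
    by_contra hcon
    push Not at hcon
    exact hzE (hCV z hcon)
  have hne : ⁅W a, W (t - 1)⁆ ≠ ⊥ := by
    intro h
    obtain ⟨v', hv', hnc⟩ := hzV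
    apply hnc
    have h6 : ⁅v', z⁆ ∈ ⁅W a, W (t - 1)⁆ := commutator_mem_commutator (hVa hv') hzW
    rw [h, mem_bot] at h6
    exact (commutatorElement_eq_one_iff_commute.mp h6).symm
  obtain ⟨κ, hκt', haκ, hκ, hκel, hκt⟩ := c.mc.D1 ha1 ht2 hbot hne
  have hκt := hκt c.deg
  -- jumps
  have hswap : ∀ {x y : P} {N : Subgroup P}, ⁅x, y⁆ ∈ N ↔ ⁅y, x⁆ ∈ N := by
    intro x y N
    rw [← commutatorElement_inv x y, inv_mem_iff]
  have hJz : c.Jp a (τ ⟨z, hzT⟩) κ := by
    apply c.Jp_τ
    intro i hi w hw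
    rw [hswap, ← hκ i hi]
    exact commutator_mem_commutator hw hzW
  have hKbot : NChain p (c.Jp a) (Kj W E τ t) 0 := by
    rw [c.Kj_bot hWtE]
    exact NChain.bot
  have hK1 : NChain p (c.Jp a) (Kj W E τ (t - 1)) κ := by
    have h6 := c.nchain_step (Jmp := c.Jp a) (j := t - 1) (S := 0) (J := κ) (by omega) hWT
      (by rw [show t - 1 + 1 = t by omega]; exact hKbot) (z := ⟨z, hzT⟩) hzW (by
        intro e he hmem
        rw [show t - 1 + 1 = t by omega] at hmem
        apply hzE
        have := mul_mem (hWtE hmem) (inv_mem he)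
        rwa [mul_inv_cancel_right] at this) hJz
    rwa [zero_add] at h6
  have hrange : ∀ j, Kj W E τ j ≤ τ.range := fun j => by
    rintro _ ⟨s, -, rfl⟩
    exact ⟨s, rfl⟩
  -- a chain with `S ≥ 3`
  have hchain : ∃ S, κ ≤ S ∧ 3 ≤ S ∧ (t = 2 → κ + 1 ≤ S) ∧ NChain p (c.Jp a) τ.range S := by
    rcases Nat.lt_or_ge 2 t with h | h
    · exact ⟨κ, le_rfl, by omega, by omega, hK1.le (hrange _)⟩
    · have ht : t = 2 := by omega
      have hEW : E = W 2 := c.E_eq_of_W2_le (by rw [← ht]; exact hWtE)
      have hTop : ∀ s : P, s ∈ normalizer (E : Set P) := by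
        intro s
        have hn : (E : Subgroup P).Normal := by rw [hEW]; exact c.mc.normal 2
        rw [Subgroup.normalizer_eq_top]
        trivial
      obtain ⟨x, hx, hx'⟩ := c.mc.ne_succ (i := 0) (by omega)
      refine ⟨κ + 1, by omega, by omega, fun _ => le_rfl, ?_⟩
      have h6 := c.nchain_step (Jmp := c.Jp a) (j := 0) (S := κ) (J := 1) (by omega)
        (fun s _ => hTop s) (by rw [show 0 + 1 = t - 1 by omega]; exact hK1) (z := ⟨x, hTop x⟩) hx (by
          intro e he hmem
          apply hx'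
          have := mul_mem hmem (inv_mem (c.E_le he))
          rwa [mul_inv_cancel_right] at this) (by
          apply c.Jp_τ
          intro i _ w hw
          exact c.mc.comm_mem' hw)
      exact h6.le (hrange _)
  obtain ⟨S, hκS, hS3, hS2, hQ⟩ := hchain
  have hpS : (p - 1) * 3 ≤ (p - 1) * S := Nat.mul_le_mul_left _ hS3
  -- conclusion from `W (n - 1)`
  have hcenZ : ⁅W (n - 1), W 1⁆ = ⊥ := by
    rw [eq_bot_iff, commutator_le]
    intro x hx w _
    rw [mem_bot, commutatorElement_eq_one_iff_commute]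
    exact c.mc.center_le hx w
  have hfin : AInv A (W (n - 1)) → GInv ρ (W (n - 1)) → Concl n W A V ρ := fun h1 h2 =>
    ⟨n - 1, by omega, by omega, c.W_sub_one_le_V, hcenZ, h1, h2⟩
  have hFermat : ∀ r : ZMod p, r ≠ 0 → r ^ (p - 1) = 1 := fun r hr =>
    ZMod.pow_card_sub_one_eq_one hr
  obtain ⟨φ, hφ⟩ := exists_coord c.mc
  by_cases hpc : PClosed A
  · have hAZ : AInv A (W (n - 1)) := hpc.aInv c.mc _ (by omega)
    apply hfin hAZ
    rcases Nat.lt_or_ge 2 t with ht3 | ht3
    swap
    · -- `t = 2`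
      have ht : t = 2 := by omega
      exact c.caseA3 hpc (by rw [← ht]; exact hWtE) ha1 hVa (by omega) hDq hS3 hQ
    have hWT2 : W (t - 2) ≤ normalizer (E : Set P) := fun s hs =>
      c.mem_T (by omega) (by rw [show t - 2 + 2 = t by omega]; exact hWtE) hs
    by_cases hE2 : ∃ e ∈ E, e ∈ W (t - 2) ∧ e ∉ W (t - 1)
    · -- (A1)
      obtain ⟨z1, hz1E, hz1W, hz1W'⟩ := hE2
      -- elements of `V` of larger index lie in `W (n - κ)`
      have hidx : ∀ w ∈ V, w ∈ W (a + 1) → ⁅z, w⁆ = 1 := by
        intro w hwV hwa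
        by_cases hw1 : w = 1
        · rw [hw1, commutatorElement_one_right]
        -- index of `w`
        obtain ⟨i, hi1, hi2, hi3⟩ : ∃ i, a + 1 ≤ i ∧ w ∈ W i ∧ w ∉ W (i + 1) := by
          classical
          have hex : ∃ j, w ∉ W (a + 1 + j) := ⟨n, by
            rw [c.mc.bot_of_le (by omega), mem_bot]; exact hw1⟩
          have h6 := Nat.find_spec hex
          have h7 : Nat.find hex ≠ 0 := by
            intro h8
            rw [h8] at h6
            exact h6 hwa
          have h8 := Nat.find_min hex (m := Nat.find hex - 1) (by omega)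
          rw [not_not] at h8
          refine ⟨a + 1 + (Nat.find hex - 1), by omega, h8, ?_⟩
          rwa [show a + 1 + (Nat.find hex - 1) + 1 = a + 1 + Nat.find hex by omega]
        have hiκ : n - 1 < i + κ := by
          by_contra hcon
          push Not at hcon
          exact c.mc.D2 c.three_le ha1 ht3 (by omega) hbot hκt' haκ hκ hκel hz1W hz1W'
            (i := a) (i' := i) le_rfl (by omega) hcon (hVa hvV) hva hi2 hi3
            (c.V_comm hvV hz1E).symm (c.V_comm hwV hz1E).symm
        have h6 : ⁅w, z⁆ ∈ W (i + κ) := by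
          rw [← hκ i (by omega)]
          exact commutator_mem_commutator hi2 hzW
        rw [c.mc.bot_of_le (by omega), hswap, mem_bot] at h6
        exact h6
      refine c.caseA1 hρ hpc (a := a) (κ := κ) ha1 hVa (by omega) haκ hDq (z := ⟨z, hzT⟩) ?_
        ⟨v, hvV, hva⟩ ?_ ?_
      · intro w hwV hwa
        exact commutatorElement_eq_one_iff_commute.mp (hidx w hwV hwa)
      · intro w hwV
        rw [hswap, ← hκ a le_rfl]
        exact commutator_mem_commutator (hVa hwV) hzW
      · intro w hwV hwa h6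
        rw [hswap] at h6
        exact hκel a le_rfl haκ w (hVa hwV) hwa z hzW hzt h6
    · -- (A2)
      push Not at hE2
      obtain ⟨z1, hz1W, hz1W'⟩ := c.mc.ne_succ (i := t - 2) (by omega)
      rw [show t - 2 + 1 = t - 1 by omega] at hz1W'
      have hz1T : z1 ∈ normalizer (E : Set P) := hWT2 hz1W
      have hz1e : ∀ e ∈ E, z1 * e ∉ W (t - 2 + 1) := by
        intro e he hmem
        rw [show t - 2 + 1 = t - 1 by omega] at hmem
        have h6 : e ∈ W (t - 2) := by
          have := mul_mem (inv_mem hz1W) (c.mc.antitone (show t - 2 ≤ t - 1 by omega) hmem)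
          rwa [inv_mul_cancel_left] at this
        have h7 := hE2 e he h6
        apply hz1W'
        have := mul_mem hmem (inv_mem h7)
        rwa [mul_inv_cancel_right] at this
      have hstep : ∀ d, (∀ i, a ≤ i → ⁅W i, W (t - 2)⁆ ≤ W (i + d)) →
          NChain p (c.Jp a) τ.range (κ + d) := by
        intro d hd
        have h6 := c.nchain_step (Jmp := c.Jp a) (j := t - 2) (S := κ) (J := d) (by omega) hWT2
          (by rw [show t - 2 + 1 = t - 1 by omega]; exact hK1) (z := ⟨z1, hz1T⟩) hz1W hz1e (by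
            apply c.Jp_τ
            intro i hi w hw
            rw [hswap]
            exact hd i hi (commutator_mem_commutator hw hz1W))
        exact h6.le (hrange _)
      rcases c.mc.D3 c.three_le ha1 ht3 (by omega) hbot hκt' haκ hκ hκel with ⟨hD, hd⟩ | ⟨d, hdt, hdκ, hd, hdel⟩
      · -- degree `κ - 1`
        have h6 := hstep (κ - 1) (fun i hi => by
          rw [show i + (κ - 1) = i + κ - 1 by omega]; exact hd i hi)
        refine c.ginv_of_pure hVa (by omega) (m := p - 1) (by omega) hAZ h6 ?_ hφ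
          (fun h _ r hr _ => hFermat r hr)
        apply Nat.mul_lt_mul_of_pos_left _ (by omega)
        omega
      · -- smaller degree
        have h6 := hstep d (fun i hi => (hd i hi).le)
        refine c.ginv_of_pure hVa (by omega) (m := κ - d - 1) (by omega) hAZ h6 ?_ hφ ?_
        · calc (κ - d - 1) * (n - 1 - a) ≤ (κ - d - 1) * (p - 1) := Nat.mul_le_mul_left _ hDq
            _ < (κ + d) * (p - 1) := Nat.mul_lt_mul_of_pos_right (by omega) (by omega)
            _ = (p - 1) * (κ + d) := mul_comm _ _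
        · intro h hh r hr hr'
          obtain ⟨α, hα, -, hα2⟩ := c.ext_ap hh
          obtain ⟨b, a0, hb0, ha00, hwt⟩ := hpc.weights hφ c.mc c.deg hα
          have hwt' : ∀ i, 1 ≤ i → i < n → ∀ w ∈ W i, φ i (ap α w) = b * a0 ^ (i - 1) * φ i w := by
            intro i hi hin w hw
            obtain ⟨j, rfl⟩ : ∃ j, i = j + 1 := ⟨i - 1, by omega⟩
            exact hwt j hin w hw
          have hAW := hpc.aInv c.mc
          -- the general pairing relation
          have hpair : ∀ s e, 1 ≤ s → s < n → a + e ≤ n - 1 → 1 ≤ e → ⁅W a, W s⁆ ≤ W (a + e) →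
              ⁅W (a + 1), W s⁆ ≤ W (a + e + 1) → ⁅W a, W (s + 1)⁆ ≤ W (a + e + 1) →
              (∃ w ∈ W a, ∃ y ∈ W s, ⁅w, y⁆ ∉ W (a + e + 1)) → a0 ^ e = b * a0 ^ (s - 1) := by
            intro s e hs1 hsn hae he1 e1 e2 e3 ⟨w, hw, y, hy, hwy⟩
            obtain ⟨β, hβ⟩ := hφ.pairing c.mc (i := a) (j := s) (m := a + e) (by omega) hsn
              (by omega) e1 e2 e3
            have hwW1 : w ∈ W 1 := c.mc.antitone ha1 hw
            have hyW1 : y ∈ W 1 := c.mc.antitone hs1 hy
            have hwy1 : ⁅w, y⁆ ∈ W (a + e) := e1 (commutator_mem_commutator hw hy)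
            have hne : φ (a + e) ⁅w, y⁆ ≠ 0 := fun h0 => hwy ((hφ.zero _ (by omega) _ hwy1).mp h0)
            have e4 := hwt' (a + e) (by omega) (by omega) _ hwy1
            rw [ap_comm α hwW1 hyW1] at e4
            have haw : ap α w ∈ W a := aInv_iff.mp (hAW a ha1) α hα w hwW1 hw
            have hay : ap α y ∈ W s := aInv_iff.mp (hAW s hs1) α hα y hyW1 hy
            rw [hβ _ haw _ hay, hwt' a ha1 (by omega) w hw, hwt' s hs1 hsn y hy] at e4
            have e5 : (b * a0 ^ (a - 1)) * (b * a0 ^ (s - 1)) * φ (a + e) ⁅w, y⁆ =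
                (b * a0 ^ (a - 1)) * a0 ^ e * φ (a + e) ⁅w, y⁆ := by
              have e6 : b * a0 ^ (a + e - 1) = (b * a0 ^ (a - 1)) * a0 ^ e := by
                rw [mul_assoc, ← pow_add]
                congr 2
                omega
              rw [← e6, ← e4, hβ w hw y hy]
              ring
            have e7 := mul_right_cancel₀ hne e5
            exact (mul_left_cancel₀ (mul_ne_zero hb0 (pow_ne_zero _ ha00)) e7).symm
          have r1 : a0 ^ κ = b * a0 ^ (t - 1 - 1) := by
            apply hpair (t - 1) κ (by omega) (by omega) haκ (by omega) (hκ a le_rfl).le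
            · rw [hκ (a + 1) (by omega), show a + 1 + κ = a + κ + 1 by omega]
            · rw [show t - 1 + 1 = t by omega, hbot]; exact bot_le
            · exact ⟨v, hVa hvV, z, hzW, hκel a le_rfl haκ v (hVa hvV) hva z hzW hzt⟩
          have r2 : a0 ^ d = b * a0 ^ (t - 2 - 1) := by
            apply hpair (t - 2) d (by omega) (by omega) (by omega) (by omega) (hd a le_rfl).le
            · rw [hd (a + 1) (by omega), show a + 1 + d = a + d + 1 by omega]
            · rw [show t - 2 + 1 = t - 1 by omega, hκ a le_rfl]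
              exact c.mc.antitone (by omega)
            · exact ⟨v, hVa hvV, z1, hz1W, hdel a le_rfl (by omega) v (hVa hvV) hva z1 hz1W hz1W'⟩
          have ham : a0 ^ (κ - d - 1) = 1 := by
            have e1 : a0 ^ κ = a0 ^ (d + 1) := by
              rw [r1, pow_succ, r2, mul_assoc, ← pow_succ]
              congr 2
              omega
            have e2 : a0 ^ (d + 1) * a0 ^ (κ - d - 1) = a0 ^ (d + 1) * 1 := by
              rw [← pow_add, mul_one, ← e1]
              congr 1
              omega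
            exact mul_left_cancel₀ (pow_ne_zero _ ha00) e2
          have hbm : b = a0 ^ (κ - (t - 2)) := by
            have e1 : b * a0 ^ (t - 2) = a0 ^ (κ - (t - 2)) * a0 ^ (t - 2) := by
              rw [← pow_add, show κ - (t - 2) + (t - 2) = κ by omega, r1]
              rfl
            exact mul_right_cancel₀ (pow_ne_zero _ ha00) e1
          -- `r` is the weight at `n - 1`
          obtain ⟨w, hw, hw1⟩ := hφ.exists_eq_one c.mc (i := n - 1) (by omega)
          have e1 := hr' ⟨w, c.W_sub_one_le_V hw⟩ hw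
          rw [← hα2] at e1
          have e2 := hwt' (n - 1) (by omega) (by omega) w hw
          have e3 : r = b * a0 ^ (n - 1 - 1) := by
            have e4 : r * φ (n - 1) w = b * a0 ^ (n - 1 - 1) * φ (n - 1) w := e1.symm.trans e2
            rwa [hw1, mul_one, mul_one] at e4
          rw [e3, hbm, ← pow_add, ← pow_mul, mul_comm, pow_mul, ham, one_pow]
  · -- not `p`-closed
    have hnab : ⁅W 1, W 1⁆ ≠ ⊥ := by
      intro h
      obtain ⟨v', hv', hnc⟩ := hzV
      apply hnc
      have h6 : ⁅z, v'⁆ ∈ ⁅W 1, W 1⁆ :=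
        commutator_mem_commutator (c.mc.antitone (by omega) hzW) (c.V_le hv')
      rw [h, mem_bot] at h6
      exact commutatorElement_eq_one_iff_commute.mp h6
    have hVΩ : p + 2 ≤ n → V ≤ W (n - (p - 1)) := by
      intro hn
      have := hDq' hn
      exact hVa.trans (c.mc.antitone (by omega))
    have hΩ : p + 2 ≤ n → ⁅W (n - (p - 1)), W 1⁆ ≠ ⊥ := by
      intro hn h
      obtain ⟨v', hv', hnc⟩ := hzV
      apply hnc
      have h6 : ⁅v', z⁆ ∈ ⁅W (n - (p - 1)), W 1⁆ :=
        commutator_mem_commutator (hVΩ hn hv') (c.mc.antitone (by omega) hzW)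
      rw [h, mem_bot] at h6
      exact (commutatorElement_eq_one_iff_commute.mp h6).symm
    rcases Cfsg.Agent.H779.Core.dual_or_special c.mc c.five c.deg c.conj_le c.sylow hnab hpc hΩ with
      ⟨i, hi1, hin, hAi, hci, hpi, θ, hθ, hθA⟩ | ⟨hn, h2, h1, hAZ⟩
    · have hiV : W i ≤ V := c.le_V hci hpi
      refine ⟨i, hi1, hin, hiV, hci, hAi, ?_⟩
      refine c.ginv_of_dual hVa (by omega) hiV hQ ?_ θ hθ hθA
      omega
    · apply hfin hAZ
      have hW2E : W 2 ≤ E := by
        intro s hs
        apply hCV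
        intro w hw
        have h6 : ⁅w, s⁆ ∈ ⁅W (n - (p - 1)), W 2⁆ := commutator_mem_commutator (hVΩ hn hw) hs
        rw [h2, mem_bot] at h6
        exact (commutatorElement_eq_one_iff_commute.mp h6).symm
      have ht : t = 2 := by
        by_contra hne2
        apply hzE
        apply hW2E
        exact c.mc.antitone (by omega) hzW
      have hκD : n - 1 - a ≤ κ := by
        have h6 : W (a + κ) ≤ W (n - 1) := by
          rw [← hκ a le_rfl]
          have h7 : ⁅W a, W (t - 1)⁆ ≤ ⁅W (n - (p - 1)), W 1⁆ := by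
            apply commutator_mono
            · have := hDq' hn
              exact c.mc.antitone (by omega)
            · exact c.mc.antitone (by omega)
          exact h7.trans h1
        have := (c.mc.le_iff (show a + κ < n by omega)).mp h6
        omega
      refine c.ginv_of_pure hVa (by omega) (m := p - 1) (by omega) hAZ hQ ?_ hφ
        (fun h _ r hr _ => hFermat r hr)
      apply Nat.mul_lt_mul_of_pos_left _ (by omega)
      have := hS2 ht
      omega

/-- **The core lemma.** -/
theorem concl (c : Cfg p n W A E V ρ H τ) : Concl n W A V ρ := by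
  obtain ⟨i, hi1, hin, hiV, hci, hAi⟩ := c.exists_omega
  by_cases hf : ∀ s ∈ normalizer (E : Set P), (∀ v ∈ V, Commute s v) → s ∈ E
  swap
  · push Not at hf
    obtain ⟨s, hsT, hsV, hsE⟩ := hf
    refine ⟨i, hi1, hin, hiV, hci, hAi, ?_⟩
    exact c.lemmaF (U := V) (fun g e _ => SetLike.coe_mem _) hiV hAi (s := ⟨s, hsT⟩) hsE hsV
  by_cases hK : H ⊔ ρ.ker = ⊤
  · exact ⟨i, hi1, hin, hiV, hci, hAi, c.ginv_of_sup_ker hK hAi⟩
  · exact (c.supKer hK).concl_aux hf le_sup_right

end Cfg

end Cfsg.Agent.H786
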