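import Cfsg.Agent.H786.Weight

/-!
# The exceptional core configuration (helper786)
-/

set_option autoImplicit false

namespace Cfsg.Agent.H786

open Subgroup Cfsg.Agent.H467.MaxClass
open scoped commutatorElement

universe u v

/-- **The exceptional core configuration.** `P` is an exceptional `p`-group of maximal class with
chain `W`, `A` a group of automorphisms of `W 1` preserving `W (n - 1)`, with Sylow `p`-subgroup
induced by `P`, `E < W 1` a centric subgroup, `B` a group of automorphisms of `E` with Sylow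
`p`-subgroup induced by `N_P(E)`, and `H < B` strongly embedded modulo the inner automorphisms, every
element of `H` being the restriction of an element of `A`. -/
structure CfgX {P : Type u} [Group P] (p n : ℕ) (W : ℕ → Subgroup P) [(W 1).Normal]
    (A : Subgroup (MulAut (W 1))) (E : Subgroup P) (B H : Subgroup (MulAut E)) : Prop where
  mc : MC P p n W
  five : 5 ≤ p
  exc : mc.Ksub (n - 2) ≠ W 1
  conj_le : conjGrp (W 1) ≤ A
  sylow : ¬ p ∣ (conjGrp (W 1)).relIndex A
  Z_inv : AInv A (W (n - 1))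
  E_le : E ≤ W 1
  E_ne : E ≠ W 1
  cent : ∀ s : P, (∀ e ∈ E, Commute s e) → s ∈ E
  H_le : H ≤ B
  H_ne : H ≠ B
  conj_mem : ∀ s, E.normalizerMonoidHom s ∈ H
  sylowB : ¬ p ∣ (E.normalizerMonoidHom.range).relIndex B
  emb : ∀ g ∈ B, g ∉ H → ∀ s, g⁻¹ * E.normalizerMonoidHom s * g ∈ H → (s : P) ∈ E
  ext : ∀ h ∈ H, ∃ a ∈ A, ∀ e : E, ap a (e : P) = ((h e : E) : P)

/-- The centre `W (n - 1)` of `P` is invariant under `B ≤ Aut E`. -/
def ZInv {P : Type u} [Group P] {E : Subgroup P} (B : Subgroup (MulAut E)) (Z : Subgroup P) : Prop :=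
  ∀ g ∈ B, ∀ e : E, (e : P) ∈ Z → ((g e : E) : P) ∈ Z

end Cfsg.Agent.H786
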