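import Cfsg.Agent.H786.NonExc
import Cfsg.Agent.H793.CoreThree

/-!
# S5267 from the exceptional core (helper786)
-/

set_option autoImplicit false

namespace Cfsg.Agent.H786.NonExc

open Cfsg Cfsg.FusionSystem Cfsg.Agent.H802 Cfsg.Agent.H467.MaxClass Cfsg.Agent.H766

universe u

theorem final {Ω : Type u} [Group Ω] {S : Subgroup Ω} [Finite S] (p : ℕ) [hp : Fact p.Prime]
    (hS : IsPGroup p ↥S) (n : ℕ) (hn : Nat.card S = p ^ n) (h4 : 4 ≤ n)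
    (hmax : Subgroup.lowerCentralSeries S (n - 2) ≠ ⊥) (F : Cfsg.FusionSystem S)
    (hF : F.IsSaturated p) (Γ₁ : Subgroup Ω)
    (hΓ₁ : ∀ x : Ω, x ∈ Γ₁ ↔ x ∈ S ∧
      ∀ y ∈ Subgroup.lowerCentralSeries S 1, x * y * x⁻¹ * y⁻¹ ∈ Subgroup.lowerCentralSeries S 3)
    (hexc : 5 ≤ p → (Cfsg.Agent.H793.PearlB.mcS hn h4 hmax).Ksub (n - 2) ≠ chain S 1 →
      Cfsg.Agent.H793.PearlC.Core p S F Γ₁) :
    (∀ E : Subgroup Ω, F.IsEssential p E → (Nat.card ↥E = p ^ 2 ∧ Cfsg.IsElementaryAbelian p E) ∨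
      (Nat.card ↥E = p ^ 3 ∧ Cfsg.IsExtraspecial p ↥E ∧ (p ≠ 2 → Monoid.exponent ↥E = p) ∧
        (p = 2 → Nonempty (↥E ≃* QuaternionGroup 2))) ∨ E = Γ₁ ∨
      E = (S ⊓ Subgroup.centralizer (((Subgroup.upperCentralSeries ↥S 2).map S.subtype) : Set Ω))) ∧
    (Γ₁ ≠ (S ⊓ Subgroup.centralizer (((Subgroup.upperCentralSeries ↥S 2).map S.subtype) : Set Ω)) →
      ∀ E : Subgroup Ω, F.IsEssential p E → (Nat.card ↥E = p ^ 3 ∧ Cfsg.IsExtraspecial p ↥E ∧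
        (p ≠ 2 → Monoid.exponent ↥E = p) ∧ (p = 2 → Nonempty (↥E ≃* QuaternionGroup 2))) → False) := by
  refine Cfsg.Agent.H793.PearlC.assembly p hS n hn h4 hmax F hF Γ₁ hΓ₁ (fun h3 => ?_)
  rcases Nat.eq_or_lt_of_le h3 with h | h
  · subst h
    exact Cfsg.Agent.H793.CoreThree.core_three hS n hn h4 hmax F Γ₁ hΓ₁
  · have h5 : 5 ≤ p := by
      rcases Nat.lt_or_ge p 5 with h6 | h6
      · exfalso
        have : p = 4 := by omega
        subst this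
        exact absurd hp.out (by norm_num)
      · exact h6
    by_cases hK : (Cfsg.Agent.H793.PearlB.mcS hn h4 hmax).Ksub (n - 2) = chain S 1
    · exact core_nonexc h5 hS hF hn h4 hmax hΓ₁ hK
    · exact hexc h5 hK

end Cfsg.Agent.H786.NonExc
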