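import Cfsg.Agent.H786.CoreX

/-!
# Data of the exceptional case after step (W3) (helper786)
-/

set_option autoImplicit false

namespace Cfsg.Agent.H786

open Subgroup Cfsg.Agent.H467.MaxClass
open scoped commutatorElement

universe u

/-- The data obtained in step (W3) of the exceptional case if `Z = W (n - 1)` is not invariant under
`B`: `V0 = ⟨v⟩ Z` of order `p ^ 2` is `B`-invariant, `E = C_{W 1}(v)`, `z ∈ W (t - 1)` induces a
transvection on `V0` and `k ∈ H` is a torus element with eigenvalues `l` on `Z`, `l⁻¹` on `V0 / Z`. -/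
structure XData {P : Type u} [Group P] (p n : ℕ) (W : ℕ → Subgroup P) (E : Subgroup P)
    (B H : Subgroup (MulAut E)) (a t l : ℕ) (v z : P) (k : MulAut E) : Prop where
  one_le_a : 1 ≤ a
  a_add_t : a + t = n
  three_le_t : 3 ≤ t
  Wt_le : W t ≤ E
  z_mem : z ∈ W (t - 1)
  z_not : z ∉ E
  v_mem : v ∈ W a
  v_not : v ∉ W (a + 1)
  v_E : v ∈ E
  v_pow : v ^ p = 1
  E_iff : ∀ w ∈ W 1, w ∈ E ↔ Commute w v
  exists_e : ∃ y ∈ E, y ∈ W (t - 2) ∧ y ∉ W (t - 1)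
  V0_inv : ZInv B (zpowers v ⊔ W (n - 1))
  not_inv : ¬ ZInv B (W (n - 1))
  k_H : k ∈ H
  k_Z : ∀ e : E, (e : P) ∈ W (n - 1) → k e = e ^ l
  k_V : ∀ e : E, (e : P) ∈ zpowers v ⊔ W (n - 1) → (((k e) ^ l * e⁻¹ : E) : P) ∈ W (n - 1)
  k_z : ∃ z' : P, z' * (z ^ (l ^ 2))⁻¹ ∈ E ∧
    ∀ e e' : E, (e' : P) = z * e * z⁻¹ → ((k e' : E) : P) = z' * (k e : E) * z'⁻¹
  l_prim : ∀ m : ℕ, (l : ZMod p) ^ m = 1 → p - 1 ∣ m

end Cfsg.Agent.H786
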