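import Cfsg.Agent.H786.Setup

/-!
# Enlarging the strongly embedded subgroup by the kernel of the action (helper786)
-/

set_option autoImplicit false
set_option linter.unusedSectionVars false

namespace Cfsg.Agent.H786

open Subgroup Cfsg.Agent.H467.MaxClass
open scoped commutatorElement

universe u v

/-- conjugation of `p`-subgroups of `K ≥ R` into the Sylow subgroup `R`, inside `K` -/
theorem SE.exists_conj_in {Γ : Type v} [Group Γ] [Finite Γ] {p : ℕ} [hp : Fact p.Prime]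
    {H R : Subgroup Γ} (h : SE p H R) {K : Subgroup Γ} (hRK : R ≤ K) {S : Subgroup Γ} (hSK : S ≤ K)
    (hS : IsPGroup p S) : ∃ g ∈ K, ∀ s ∈ S, g⁻¹ * s * g ∈ R := by
  have hS' : IsPGroup p (S.subgroupOf K) := hS.comap_subtype
  obtain ⟨Q, hQ⟩ := hS'.exists_le_sylow
  have hidx : ¬ p ∣ (R.subgroupOf K).index := by
    intro hd
    exact h.index (hd.trans (Subgroup.relIndex_dvd_index_of_le hRK))
  let RS : Sylow p K := (h.pgroup.comap_subtype : IsPGroup p (R.subgroupOf K)).toSylow hidx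
  obtain ⟨g, hg⟩ := MulAction.exists_smul_eq K RS Q
  refine ⟨g, g.2, fun s hs => ?_⟩
  have h1 : (⟨s, hSK hs⟩ : K) ∈ ((g • RS : Sylow p K) : Subgroup K) := by
    rw [hg]; exact hQ (mem_subgroupOf.mpr hs)
  rw [Sylow.coe_subgroup_smul, Subgroup.mem_pointwise_smul_iff_inv_smul_mem] at h1
  have h2 : g⁻¹ * ⟨s, hSK hs⟩ * g ∈ (RS : Subgroup K) := by
    simpa [MulAut.smul_def, MulAut.conj_apply] using h1
  exact mem_subgroupOf.mp h2

/-- `H N` is strongly embedded if `N` is a normal subgroup with `N ∩ R = 1` and `H N < Γ` -/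
theorem SE.sup {Γ : Type v} [Group Γ] [Finite Γ] {p : ℕ} [hp : Fact p.Prime]
    {H R : Subgroup Γ} (h : SE p H R) (N : Subgroup Γ) (hne : H ⊔ N ≠ ⊤) : SE p (H ⊔ N) R where
  le := h.le.trans le_sup_left
  pgroup := h.pgroup
  index := h.index
  ne := hne
  emb := by
    intro g hg u hu hgu
    set K := H ⊔ N with hK
    have hup : IsPGroup p (zpowers (g⁻¹ * u * g)) := by
      have h1 : IsPGroup p (zpowers u) := h.pgroup.to_le (zpowers_le.mpr hu)
      have h2 := h1.map (MulAut.conj g⁻¹).toMonoidHom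
      rw [MonoidHom.map_zpowers] at h2
      have h3 : (MulAut.conj g⁻¹).toMonoidHom u = g⁻¹ * u * g := by
        show g⁻¹ * u * g⁻¹⁻¹ = _
        rw [inv_inv]
      rwa [h3] at h2
    obtain ⟨y, hyK, hy⟩ := h.exists_conj_in (h.le.trans le_sup_left : R ≤ K)
      (zpowers_le.mpr hgu) hup
    have h1 := hy _ (mem_zpowers _)
    apply h.emb (g * y) _ u hu
    · have e : (g * y)⁻¹ * u * (g * y) = y⁻¹ * (g⁻¹ * u * g) * y := by group
      rw [e]
      exact h.le h1
    · intro hgy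
      apply hg
      have := K.mul_mem ((le_sup_left : H ≤ K) hgy) (K.inv_mem hyK)
      simpa using this

namespace Cfg

variable {P : Type u} [Group P] [Finite P] {p n : ℕ} [hp : Fact p.Prime] {W : ℕ → Subgroup P}
  [hW1 : (W 1).Normal] {A : Subgroup (MulAut (W 1))} {E V : Subgroup P} {Γ : Type v} [Group Γ]
  [Finite Γ] {ρ : Γ →* MulAut V} {H : Subgroup Γ} {τ : (normalizer (E : Set P)) →* Γ}

theorem exists_mul_ker {g : Γ} (hg : g ∈ H ⊔ ρ.ker) : ∃ h ∈ H, ρ g = ρ h := by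
  have hg' : g ∈ ((H ⊔ ρ.ker : Subgroup Γ) : Set Γ) := hg
  rw [Subgroup.mul_normal] at hg'
  obtain ⟨h, hh, k, hk, rfl⟩ := hg'
  refine ⟨h, hh, ?_⟩
  simp only
  rw [map_mul, MonoidHom.mem_ker.mp hk, mul_one]

theorem supKer (c : Cfg p n W A E V ρ H τ) (hne : H ⊔ ρ.ker ≠ ⊤) :
    Cfg p n W A E V ρ (H ⊔ ρ.ker) τ := by
  have hse := c.se.sup ρ.ker hne
  exact
  { mc := c.mc
    deg := c.deg
    five := c.five
    conj_le := c.conj_le
    sylow := c.sylow
    E_le := c.E_le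
    E_ne := c.E_ne
    mem_V := c.mem_V
    ρτ := c.ρτ
    ker := c.ker
    H_ne := hne
    τ_mem := fun s => (le_sup_left : H ≤ H ⊔ ρ.ker) (c.τ_mem s)
    emb := fun g hg s hs => hse.emb g hg (τ s) ⟨s, rfl⟩ hs
    sylowΓ := c.sylowΓ
    ext := by
      intro h hh
      obtain ⟨h', hh', e⟩ := exists_mul_ker hh
      obtain ⟨a, ha, h1, h2⟩ := c.ext h' hh'
      refine ⟨a, ha, h1, fun v x hv => ?_⟩
      rw [h2 v x hv, e]
    cent := c.cent }

/-- if `H ker ρ = Γ` then every `A`-invariant subgroup is `Γ`-invariant -/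
theorem ginv_of_sup_ker (c : Cfg p n W A E V ρ H τ) (htop : H ⊔ ρ.ker = ⊤) {B : Subgroup P}
    (hB : AInv A B) : GInv ρ B := by
  intro g v hv
  obtain ⟨h, hh, e⟩ := exists_mul_ker (H := H) (ρ := ρ) (g := g) (by rw [htop]; trivial)
  rw [e]
  exact c.H_inv hB hh hv

end Cfg

end Cfsg.Agent.H786
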