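import Cfsg.Agent.H786.Core

/-!
# Strongly embedded subgroups with a given Sylow subgroup (helper786)
-/

set_option autoImplicit false

namespace Cfsg.Agent.H786

open Subgroup

universe u v

/-- `R` is a Sylow `p`-subgroup of `Γ` contained in `H`, and `R ∩ gHg⁻¹ = 1` for `g ∉ H`. -/
structure SE {Γ : Type v} [Group Γ] (p : ℕ) (H R : Subgroup Γ) : Prop where
  le : R ≤ H
  pgroup : IsPGroup p R
  index : ¬ p ∣ R.index
  emb : ∀ g, g ∉ H → ∀ u ∈ R, g⁻¹ * u * g ∈ H → u = 1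
  ne : H ≠ ⊤

namespace SE

variable {Γ : Type v} [Group Γ] [Finite Γ] {p : ℕ} [hp : Fact p.Prime] {H R : Subgroup Γ}

/-- every `p`-subgroup is conjugate into `R` -/
theorem exists_conj (h : SE p H R) {S : Subgroup Γ} (hS : IsPGroup p S) :
    ∃ g : Γ, ∀ s ∈ S, g⁻¹ * s * g ∈ R := by
  obtain ⟨Q, hQ⟩ := hS.exists_le_sylow
  let RS : Sylow p Γ := h.pgroup.toSylow h.index
  obtain ⟨g, hg⟩ := MulAction.exists_smul_eq Γ RS Q
  refine ⟨g, fun s hs => ?_⟩
  have h1 : s ∈ ((g • RS : Sylow p Γ) : Subgroup Γ) := by rw [hg]; exact hQ hs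
  rw [Sylow.coe_subgroup_smul, Subgroup.mem_pointwise_smul_iff_inv_smul_mem] at h1
  have h2 : g⁻¹ * s * g ∈ (RS : Subgroup Γ) := by
    simpa [MulAut.smul_def, MulAut.conj_apply] using h1
  exact h2

theorem emb_all (h : SE p H R) {u : Γ} (hu : u ∈ H) (hup : IsPGroup p (zpowers u)) (hu1 : u ≠ 1)
    {g : Γ} (hg : g⁻¹ * u * g ∈ H) : g ∈ H := by
  obtain ⟨y, hy⟩ := h.exists_conj hup
  have h1 : y⁻¹ * u * y ∈ R := hy u (mem_zpowers u)
  -- `y ∈ H`
  have hyH : y ∈ H := by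
    by_contra hyH
    have h2 : y⁻¹ * u * y = 1 := by
      apply h.emb y⁻¹ (fun h3 => hyH (by simpa using H.inv_mem h3)) _ h1
      rw [inv_inv]
      have : y * (y⁻¹ * u * y) * y⁻¹ = u := by group
      rw [this]
      exact hu
    apply hu1
    have h3 : u = y * (y⁻¹ * u * y) * y⁻¹ := by group
    rw [h3, h2]
    group
  by_contra hgH
  have h2 : y⁻¹ * u * y = 1 := by
    apply h.emb (y⁻¹ * g) (fun h3 => hgH ?_) _ h1
    · have : (y⁻¹ * g)⁻¹ * (y⁻¹ * u * y) * (y⁻¹ * g) = g⁻¹ * u * g := by group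
      rw [this]
      exact hg
    · have := H.mul_mem hyH h3
      simpa using this
  apply hu1
  have h3 : u = y * (y⁻¹ * u * y) * y⁻¹ := by group
  rw [h3, h2]
  group

theorem centralizer_le (h : SE p H R) {u : Γ} (hu : u ∈ H) (hup : IsPGroup p (zpowers u))
    (hu1 : u ≠ 1) {g : Γ} (hg : Commute g u) : g ∈ H := by
  apply h.emb_all hu hup hu1 (g := g)
  have : g⁻¹ * u * g = u := by
    rw [mul_assoc, ← hg.eq, inv_mul_cancel_left]
  rw [this]
  exact hu

theorem pgroup_le (h : SE p H R) {S : Subgroup Γ} (hS : IsPGroup p S) {u : Γ} (hu : u ∈ H)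
    (huS : u ∈ S) (hu1 : u ≠ 1) : S ≤ H := by
  have hz : ∀ y ∈ S, IsPGroup p (zpowers y) := fun y hy => hS.to_le (zpowers_le.mpr hy)
  have hSn : Nontrivial S := ⟨⟨u, huS⟩, 1, fun h => hu1 (congrArg Subtype.val h)⟩
  have hfin : Finite S := inferInstance
  have hc : Nontrivial (center S) := hS.center_nontrivial
  obtain ⟨⟨⟨z, hzS⟩, hzc⟩, hz1⟩ := exists_ne (1 : center S)
  have hz1' : z ≠ 1 := fun e => hz1 (Subtype.ext (Subtype.ext e))
  have hcomm : ∀ y ∈ S, Commute y z := by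
    intro y hy
    have := mem_center_iff.mp hzc ⟨y, hy⟩
    exact congrArg Subtype.val this
  have hzH : z ∈ H := h.centralizer_le hu (hz u huS) hu1 (hcomm u huS).symm
  intro y hy
  exact h.centralizer_le hzH (hz z hzS) hz1' (hcomm y hy)

theorem normalizer_le (h : SE p H R) {S : Subgroup Γ} (hS : IsPGroup p S) {u : Γ} (hu : u ∈ H)
    (huS : u ∈ S) (hu1 : u ≠ 1) {g : Γ} (hg : ∀ y ∈ S, g⁻¹ * y * g ∈ S) : g ∈ H := by
  have h1 := h.pgroup_le hS hu huS hu1
  exact h.emb_all hu (hS.to_le (zpowers_le.mpr huS)) hu1 (h1 (hg u huS))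

/-- Frattini argument for a normal subgroup meeting `R` nontrivially -/
theorem frattini (h : SE p H R) {N : Subgroup Γ} [hN : N.Normal] {u : Γ} (hu : u ∈ N)
    (huR : u ∈ R) (hu1 : u ≠ 1) (g : Γ) : ∃ y ∈ N, ∃ k ∈ H, g = y * k := by
  have hup : IsPGroup p (zpowers u) := h.pgroup.to_le (zpowers_le.mpr huR)
  have hup' : IsPGroup p ((zpowers u).subgroupOf N) := hup.comap_subtype
  obtain ⟨Q, hQ⟩ := hup'.exists_le_sylow
  have h1 := Sylow.normalizer_sup_eq_top Q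
  have huQ : u ∈ (Q : Subgroup N).map N.subtype :=
    ⟨⟨u, hu⟩, hQ (mem_subgroupOf.mpr (mem_zpowers u)), rfl⟩
  have hQp : IsPGroup p ((Q : Subgroup N).map N.subtype) := Q.isPGroup'.map _
  have hle : normalizer ((Q : Subgroup N).map N.subtype : Set Γ) ≤ H := by
    intro y hy
    refine h.normalizer_le hQp (h.le huR) huQ hu1 ?_
    intro z hz
    have := (mem_normalizer_iff.mp (Subgroup.inv_mem _ hy) z).mp hz
    simpa using this
  have hg : g ∈ ((⊤ : Subgroup Γ) : Set Γ) := mem_top g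
  rw [← h1, sup_comm, Subgroup.normal_mul] at hg
  obtain ⟨y, hy, k, hk, rfl⟩ := hg
  exact ⟨y, hy, k, hle hk, rfl⟩

end SE

end Cfsg.Agent.H786
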