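import Cfsg.Agent.H785.Transv
import Cfsg.Agent.H786.SE

/-!
# Two transvections in a group with a strongly embedded subgroup (helper786)

Adapted from `H785.Transv` (helper785): the hypothesis that the `p`-subgroups are small is replaced by the
two conditions `[A,s] ∩ C_A(s') = 1 = [A,s'] ∩ C_A(s)`.
-/

set_option autoImplicit false
set_option linter.unusedSectionVars false

namespace Cfsg.Agent.H786

open Cfsg.Agent.H785

/-- Two transvections in general position. -/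
structure Tw {A : Type*} [CommGroup A] (p : ℕ) (G : Subgroup (MulAut A)) (s s' : MulAut A) : Prop where
  sG : s ∈ G
  s'G : s' ∈ G
  cs : Nat.card (com s) = p
  cs' : Nat.card (com s') = p
  com_le_fix_self : com s ≤ fix s
  com_le_fix_self' : com s' ≤ fix s'
  inf : ∀ x ∈ com s, x ∈ fix s' → x = 1
  inf' : ∀ x ∈ com s', x ∈ fix s → x = 1

namespace Tw

variable {A : Type*} [CommGroup A] [Finite A] {p : ℕ} [hp : Fact p.Prime] {G : Subgroup (MulAut A)}
  {s s' : MulAut A}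

theorem symm (h : Tw p G s s') : Tw p G s' s :=
  ⟨h.s'G, h.sG, h.cs', h.cs, h.com_le_fix_self', h.com_le_fix_self, h.inf', h.inf⟩

theorem com_inf_fix (h : Tw p G s s') {x : A} (hx : x ∈ com s) (hx' : x ∈ fix s') : x = 1 :=
  h.inf x hx hx'

theorem zpow_eq_of_dvd {x : A} (hx : x ^ p = 1) {m n : ℤ} (h : (p : ℤ) ∣ m - n) :
    x ^ m = x ^ n := by
  obtain ⟨k, hk⟩ := h
  have e : m = n + p * k := by omega
  rw [e, zpow_add, zpow_mul, zpow_natCast, hx, one_zpow, mul_one]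

theorem eq_one_of_mem (h : Tw p G s s') {x : A} (hx : x ∈ com s ⊔ com s') (hx1 : x ∈ fix s)
    (hx2 : x ∈ fix s') : x = 1 := by
  obtain ⟨y, hy, z, hz, rfl⟩ := Subgroup.mem_sup.1 hx
  have hz1 : z ∈ fix s := ((fix s).mul_mem_cancel_left (h.com_le_fix_self hy)).1 hx1
  have hz0 := h.symm.com_inf_fix hz hz1
  subst hz0
  rw [mul_one] at hx2 ⊢
  exact h.com_inf_fix hy hx2

theorem fix_le (h : Tw p G s s') {x : A} (hx : x ∈ fix s) :
    ∃ d ∈ com s, x * d ∈ fix s ⊓ fix s' := by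
  by_cases hx' : x ∈ fix s'
  · exact ⟨1, (com s).one_mem, by rw [mul_one]; exact ⟨hx, hx'⟩⟩
  · -- `del s'` maps `com s` onto `com s'`
    have hnt : Nontrivial (com s) := by
      rw [← Finite.one_lt_card_iff_nontrivial, h.cs]
      exact hp.out.one_lt
    obtain ⟨⟨d, hd⟩, hd1⟩ := exists_ne (1 : com s)
    have hd1' : d ≠ 1 := fun e => hd1 (Subtype.ext e)
    have hd2 : del s' d ≠ 1 := by
      intro e
      exact hd1' (h.com_inf_fix hd e)
    obtain ⟨n, hn⟩ := exists_zpow_eq h.cs' (del_mem_com s' d) hd2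
      ((com s').inv_mem (del_mem_com s' x))
    refine ⟨d ^ n, (com s).zpow_mem hd n, ?_, ?_⟩
    · exact (fix s).mul_mem hx ((fix s).zpow_mem (h.com_le_fix_self hd) n)
    · show del s' (x * d ^ n) = 1
      rw [map_mul, map_zpow, hn, mul_inv_cancel]

theorem mem_sup_all (h : Tw p G s s') (x : A) :
    ∃ v ∈ com s ⊔ com s', x * v ∈ fix s ⊓ fix s' := by
  -- first correct by an element of `com s'` to get into `fix s`
  have hnt : Nontrivial (com s') := by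
    rw [← Finite.one_lt_card_iff_nontrivial, h.cs']
    exact hp.out.one_lt
  obtain ⟨⟨d, hd⟩, hd1⟩ := exists_ne (1 : com s')
  have hd1' : d ≠ 1 := fun e => hd1 (Subtype.ext e)
  have hd2 : del s d ≠ 1 := by
    intro e
    exact hd1' (h.symm.com_inf_fix hd e)
  obtain ⟨n, hn⟩ := exists_zpow_eq h.cs (del_mem_com s d) hd2 ((com s).inv_mem (del_mem_com s x))
  have h1 : x * d ^ n ∈ fix s := by
    show del s (x * d ^ n) = 1
    rw [map_mul, map_zpow, hn, mul_inv_cancel]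
  obtain ⟨e, he, h2⟩ := h.fix_le h1
  refine ⟨d ^ n * e, ?_, ?_⟩
  · exact Subgroup.mul_mem _ ((le_sup_right : com s' ≤ _) ((com s').zpow_mem hd n))
      ((le_sup_left : com s ≤ _) he)
  · rw [← mul_assoc]
    exact h2

theorem sup_eq_top (h : Tw p G s s') : (com s ⊔ com s') ⊔ (fix s ⊓ fix s') = ⊤ := by
  rw [eq_top_iff]
  intro x _
  obtain ⟨v, hv, hx⟩ := h.mem_sup_all x
  have e : x = v⁻¹ * (x * v) := by rw [mul_comm x v, inv_mul_cancel_left]
  rw [e]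
  exact Subgroup.mul_mem_sup (Subgroup.inv_mem _ hv) hx

theorem exists_move (h : Tw p G s s') {x : A} (hx : x ∈ com s ⊔ com s') (hx' : x ∉ com s') :
    ∃ n : ℤ, (s' ^ n) x ∈ com s := by
  obtain ⟨y, hy, z, hz, rfl⟩ := Subgroup.mem_sup.1 hx
  have hy1 : y ≠ 1 := by
    rintro rfl
    rw [one_mul] at hx'
    exact hx' hz
  have hd2 : del s' y ≠ 1 := by
    intro e
    exact hy1 (h.com_inf_fix hy e)
  obtain ⟨n, hn⟩ := exists_zpow_eq h.cs' (del_mem_com s' y) hd2 ((com s').inv_mem hz)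
  have hz' : z ∈ fix s' := h.symm.com_le_fix_self hz
  have hw : del s' y ∈ fix s' := h.symm.com_le_fix_self (del_mem_com s' y)
  refine ⟨n, ?_⟩
  rw [map_mul, zpow_apply hw, hn, zpow_apply_of_mem_fix hz' n, mul_assoc, inv_mul_cancel, mul_one]
  exact hy

theorem apply_mem_V (h : Tw p G s s') {x : A} (hx : x ∈ com s ⊔ com s') (n : ℤ) :
    (s' ^ n) x ∈ com s ⊔ com s' := by
  have h0 : s' ∈ moveIn (com s') := fun x => del_mem_com s' x
  have h1 : s' ^ n ∈ moveIn (com s') := Subgroup.zpow_mem _ h0 n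
  have h2 := Subgroup.mul_mem _ hx ((le_sup_right : com s' ≤ com s ⊔ com s') (h1 x))
  rwa [mul_inv_cancel_left] at h2

theorem pow_eq_one_of_mem_com (h : Tw p G s s') {x : A} (hx : x ∈ com s) : x ^ p = 1 := by
  have h1 : (⟨x, hx⟩ : com s) ^ Nat.card (com s) = 1 := pow_card_eq_one'
  rw [h.cs] at h1
  exact congrArg Subtype.val h1

theorem pow_eq_one_of_mem_V (h : Tw p G s s') {x : A} (hx : x ∈ com s ⊔ com s') : x ^ p = 1 := by
  obtain ⟨y, hy, z, hz, rfl⟩ := Subgroup.mem_sup.1 hx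
  rw [mul_pow, h.pow_eq_one_of_mem_com hy, h.symm.pow_eq_one_of_mem_com hz, one_mul]

theorem torus (h : Tw p G s s') {l l' : ℤ} (hl : (p : ℤ) ∣ l * l' - 1) :
    ∃ t ∈ G, (∀ x ∈ com s, t x = x ^ l) ∧ (∀ x ∈ com s', t x = x ^ l') ∧
      (∀ x ∈ fix s ⊓ fix s', t x = x) ∧ t * s * t⁻¹ = s ^ (l ^ 2) := by
  have hnt : Nontrivial (com s') := by
    rw [← Finite.one_lt_card_iff_nontrivial, h.cs']
    exact hp.out.one_lt
  obtain ⟨⟨v2, hv2⟩, hv2ne⟩ := exists_ne (1 : com s')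
  have hv2' : v2 ≠ 1 := fun e => hv2ne (Subtype.ext e)
  set v1 := del s v2 with hv1
  have hv1m : v1 ∈ com s := del_mem_com s v2
  have hv1ne : v1 ≠ 1 := fun e => hv2' (h.symm.com_inf_fix hv2 e)
  have hv1f : v1 ∈ fix s := h.com_le_fix_self hv1m
  have hv2f : v2 ∈ fix s' := h.symm.com_le_fix_self hv2
  have hwm : del s' v1 ∈ com s' := del_mem_com s' v1
  have hwne : del s' v1 ≠ 1 := fun e => hv1ne (h.com_inf_fix hv1m e)
  have hwf : del s' v1 ∈ fix s' := h.symm.com_le_fix_self hwm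
  obtain ⟨m, hm⟩ := exists_zpow_eq h.cs' hwm hwne ((com s').inv_mem hv2)
  have hv1p : v1 ^ p = 1 := h.pow_eq_one_of_mem_com hv1m
  have hv2p : v2 ^ p = 1 := h.symm.pow_eq_one_of_mem_com hv2
  -- the elementary actions
  have a1 : ∀ n : ℤ, (s ^ n) v1 = v1 := fun n => zpow_apply_of_mem_fix hv1f n
  have a2 : ∀ n : ℤ, (s ^ n) v2 = v2 * v1 ^ n := fun n => zpow_apply hv1f n
  have b2 : ∀ n : ℤ, (s' ^ (m * n)) v2 = v2 := fun n => zpow_apply_of_mem_fix hv2f _
  have b1 : ∀ n : ℤ, (s' ^ (m * n)) v1 = v1 * v2 ^ (-n) := by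
    intro n
    rw [zpow_apply hwf, zpow_mul, hm, inv_zpow, zpow_neg]
  have W : ∀ n n' : ℤ, (p : ℤ) ∣ n * n' - 1 → ∃ w ∈ G, w v1 = v2 ^ (-n') ∧ w v2 = v1 ^ n ∧
      ∀ x ∈ fix s ⊓ fix s', w x = x := by
    intro n n' hnn
    refine ⟨s ^ n * s' ^ (m * n') * s ^ n, G.mul_mem (G.mul_mem (G.zpow_mem h.sG _)
      (G.zpow_mem h.s'G _)) (G.zpow_mem h.sG _), ?_, ?_, ?_⟩
    · rw [MulAut.mul_apply, MulAut.mul_apply, a1, b1, map_mul, map_zpow, a1, a2, mul_zpow,
        ← zpow_mul]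
      have e : v1 ^ (n * -n') = v1⁻¹ := by
        have h2 : (p : ℤ) ∣ (n * -n') - (-1) := by
          obtain ⟨k, hk⟩ := hnn
          exact ⟨-k, by linear_combination -hk⟩
        rw [zpow_eq_of_dvd hv1p h2, zpow_neg, zpow_one]
      rw [e, mul_comm v1, mul_assoc, inv_mul_cancel, mul_one]
    · rw [MulAut.mul_apply, MulAut.mul_apply, a2, map_mul, map_zpow, b1, b2, mul_zpow, ← zpow_mul]
      have e : v2 ^ (-n' * n) = v2⁻¹ := by
        have h2 : (p : ℤ) ∣ (-n' * n) - (-1) := by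
          obtain ⟨k, hk⟩ := hnn
          exact ⟨-k, by linear_combination -hk⟩
        rw [zpow_eq_of_dvd hv2p h2, zpow_neg, zpow_one]
      rw [e, mul_comm v2, mul_assoc, inv_mul_cancel, mul_one, map_zpow, a1]
    · rintro x ⟨hx1, hx2⟩
      rw [MulAut.mul_apply, MulAut.mul_apply, zpow_apply_of_mem_fix hx1, zpow_apply_of_mem_fix hx2,
        zpow_apply_of_mem_fix hx1]
  obtain ⟨w1, hw1G, hw11, hw12, hw1C⟩ := W 1 1 (by simp)
  obtain ⟨w2, hw2G, hw21, hw22, hw2C⟩ := W (-l) (-l') (by rwa [neg_mul_neg])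
  have t1 : (w2 * w1) v1 = v1 ^ l := by
    rw [MulAut.mul_apply, hw11, map_zpow, hw22, ← zpow_mul]
    congr 1
    ring
  have t2 : (w2 * w1) v2 = v2 ^ l' := by
    rw [MulAut.mul_apply, hw12, zpow_one, hw21, neg_neg]
  have tc1 : ∀ x ∈ com s, (w2 * w1) x = x ^ l := by
    intro x hx
    obtain ⟨n, rfl⟩ := exists_zpow_eq h.cs hv1m hv1ne hx
    rw [map_zpow, t1, ← zpow_mul, ← zpow_mul, mul_comm]
  have tc2 : ∀ x ∈ com s', (w2 * w1) x = x ^ l' := by
    intro x hx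
    obtain ⟨n, rfl⟩ := exists_zpow_eq h.cs' hv2 hv2' hx
    rw [map_zpow, t2, ← zpow_mul, ← zpow_mul, mul_comm]
  have tC : ∀ x ∈ fix s ⊓ fix s', (w2 * w1) x = x := by
    intro x hx
    rw [MulAut.mul_apply, hw1C x hx, hw2C x hx]
  refine ⟨w2 * w1, G.mul_mem hw2G hw1G, tc1, tc2, tC, ?_⟩
  rw [mul_inv_eq_iff_eq_mul]
  set t := w2 * w1 with ht
  have key : (⊤ : Subgroup A) ≤
      MonoidHom.eqLocus (t * s).toMonoidHom (s ^ (l ^ 2) * t).toMonoidHom := by
    rw [← h.sup_eq_top]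
    refine sup_le (sup_le ?_ ?_) ?_
    · intro x hx
      show t (s x) = (s ^ (l ^ 2)) (t x)
      rw [mem_fix.1 (h.com_le_fix_self hx), tc1 x hx, map_zpow,
        zpow_apply_of_mem_fix (h.com_le_fix_self hx)]
    · intro x hx
      obtain ⟨n, rfl⟩ := exists_zpow_eq h.cs' hv2 hv2' hx
      show t (s (v2 ^ n)) = (s ^ (l ^ 2)) (t (v2 ^ n))
      have e1 : t (s v2) = (s ^ (l ^ 2)) (t v2) := by
        have e2 : s v2 = v2 * v1 := by rw [hv1, ← apply_eq_mul_del]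
        rw [e2, map_mul, t1, t2, map_zpow, a2, mul_zpow, ← zpow_mul]
        congr 1
        apply zpow_eq_of_dvd hv1p
        obtain ⟨k, hk⟩ := hl
        exact ⟨-(l * k), by linear_combination (-l) * hk⟩
      rw [map_zpow, map_zpow, map_zpow, map_zpow, e1]
    · intro x hx
      show t (s x) = (s ^ (l ^ 2)) (t x)
      rw [mem_fix.1 hx.1, tC x hx, zpow_apply_of_mem_fix hx.1]
  exact MulEquiv.ext fun x => key (Subgroup.mem_top x)

end Tw

/-- If `[A,a] ≤ C_A(b)` then `b a b⁻¹` commutes with `a` (for `[A,a] ≤ C_A(a)`). -/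
theorem commute_of_com_le_fix {A : Type*} [CommGroup A] {a b : MulAut A} (ha : com a ≤ fix a)
    (h : com a ≤ fix b) : Commute (b * a * b⁻¹) a := by
  have h1 : ∀ x, (b * a * b⁻¹) x = x * b (del a (b⁻¹ x)) := by
    intro x
    rw [MulAut.mul_apply, MulAut.mul_apply, apply_eq_mul_del a (b⁻¹ x), map_mul,
      MulAut.apply_inv_self]
  have h2 : ∀ x, (b * a * b⁻¹) x = x * del a (b⁻¹ x) := by
    intro x
    rw [h1, mem_fix.1 (h (del_mem_com a _))]
  have h3 : ∀ y ∈ com a, (b * a * b⁻¹) y = y := by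
    intro y hy
    have h5 : b⁻¹ y = y := by
      have := mem_fix.1 (h hy)
      conv_lhs => rw [← this]
      exact MulAut.inv_apply_self _ b y
    rw [MulAut.mul_apply, MulAut.mul_apply, h5, mem_fix.1 (ha hy), mem_fix.1 (h hy)]
  apply MulEquiv.ext
  intro x
  show (b * a * b⁻¹) (a x) = a ((b * a * b⁻¹) x)
  have h4 : (b * a * b⁻¹) (a x) = x * del a (b⁻¹ x) * del a x := by
    conv_lhs => rw [apply_eq_mul_del a x]
    rw [map_mul, h3 _ (del_mem_com a x), h2 x]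
  have h5 : a ((b * a * b⁻¹) x) = x * del a x * del a (b⁻¹ x) := by
    rw [h2 x, map_mul, mem_fix.1 (ha (del_mem_com a _)), ← apply_eq_mul_del a x]
  rw [h4, h5, mul_right_comm]

section SE

universe v

variable {Γ : Type v} [Group Γ] [Finite Γ] {p : ℕ} [hp : Fact p.Prime] {H R : Subgroup Γ}
  {A : Type*} [CommGroup A] [Finite A] {ρ : Γ →* MulAut A}

/-- Two conjugate transvections of a group with a strongly embedded subgroup. -/
theorem SE.tw (h : SE p H R) (hρ : ρ.ker ≤ H) {z : Γ} (hz : z ∈ H) (hzp : IsPGroup p (Subgroup.zpowers z))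
    (hcard : Nat.card (com (ρ z)) = p) (hcf : com (ρ z) ≤ fix (ρ z)) {g : Γ} (hg : g ∉ H) :
    Tw p ρ.range (ρ z) (ρ (g * z * g⁻¹)) := by
  have hz1 : z ≠ 1 := by
    rintro rfl
    have h1 : com (ρ (1 : Γ)) = ⊥ := by
      rw [eq_bot_iff]
      rintro _ ⟨x, rfl⟩
      simp [del_apply]
    rw [h1, Subgroup.card_bot] at hcard
    exact hp.out.one_lt.ne hcard
  have hzz : g⁻¹ * (g * z * g⁻¹) * g = z := by group
  have hz'p : IsPGroup p (Subgroup.zpowers (g * z * g⁻¹)) := by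
    have : Subgroup.zpowers (g * z * g⁻¹) = (Subgroup.zpowers z).map (MulAut.conj g).toMonoidHom := by
      rw [MonoidHom.map_zpowers]
      rfl
    rw [this]
    exact hzp.map _
  have hz'1 : g * z * g⁻¹ ≠ 1 := by
    intro e
    apply hz1
    rw [← hzz, e]
    group
  have hz'H : g * z * g⁻¹ ∉ H := fun e => hg (h.emb_all e hz'p hz'1 (by rw [hzz]; exact hz))
  have key : ∀ a b : Γ, Commute (ρ a) (ρ b) → b⁻¹ * a * b * a⁻¹ ∈ H := by
    intro a b hab
    apply hρ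
    rw [MonoidHom.mem_ker, map_mul, map_mul, map_mul, map_inv, map_inv, mul_assoc (ρ b)⁻¹, hab.eq]
    group
  have card' : Nat.card (com (ρ (g * z * g⁻¹))) = p := by
    rw [map_mul, map_mul, map_inv, card_com_conj, hcard]
  have hcf' : com (ρ (g * z * g⁻¹)) ≤ fix (ρ (g * z * g⁻¹)) := by
    intro x hx
    rw [map_mul, map_mul, map_inv] at hx ⊢
    rw [mem_com_conj] at hx
    rw [mem_fix_conj]
    exact hcf hx
  refine ⟨⟨z, rfl⟩, ⟨g * z * g⁻¹, rfl⟩, hcard, card', hcf, hcf', ?_, ?_⟩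
  · intro x hx hx'
    by_contra hx1
    have h1 : com (ρ z) ≤ fix (ρ (g * z * g⁻¹)) := le_of_card_prime_of_mem hcard hx hx1 hx'
    have h2 := commute_of_com_le_fix hcf h1
    rw [← map_inv, ← map_mul, ← map_mul] at h2
    have h3 := key _ _ h2.symm
    have h4 : (g * z * g⁻¹ * z * (g * z * g⁻¹)⁻¹)⁻¹ * z * (g * z * g⁻¹ * z * (g * z * g⁻¹)⁻¹) ∈ H := by
      have := H.mul_mem h3 hz
      simpa using this
    have h5 := h.emb_all hz hzp hz1 h4
    have h6 := h.emb_all hz hzp hz1 (g := (g * z * g⁻¹)⁻¹) (by rw [inv_inv]; exact h5)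
    exact hz'H (by simpa using H.inv_mem h6)
  · intro x hx hx'
    by_contra hx1
    have h1 : com (ρ (g * z * g⁻¹)) ≤ fix (ρ z) := le_of_card_prime_of_mem card' hx hx1 hx'
    have h2 := commute_of_com_le_fix hcf' h1
    rw [← map_inv, ← map_mul, ← map_mul] at h2
    -- `y = z z' z⁻¹` commutes with `z'` modulo the kernel
    set z' := g * z * g⁻¹ with hz'
    have h3 : (z * z' * z⁻¹)⁻¹ * z' * (z * z' * z⁻¹) * z'⁻¹ ∈ ρ.ker := by
      rw [MonoidHom.mem_ker, map_mul, map_mul, map_mul, map_inv, map_inv, mul_assoc (ρ (z * z' * z⁻¹))⁻¹,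
        h2.symm.eq]
      group
    have h4 : g⁻¹ * ((z * z' * z⁻¹)⁻¹ * z' * (z * z' * z⁻¹) * z'⁻¹) * g ∈ H := by
      apply hρ
      have := (inferInstance : ρ.ker.Normal).conj_mem _ h3 g⁻¹
      simpa using this
    have h5 : (g⁻¹ * z * g * z * (g⁻¹ * z * g)⁻¹)⁻¹ * z * (g⁻¹ * z * g * z * (g⁻¹ * z * g)⁻¹) ∈ H := by
      have h6 := H.mul_mem h4 hz
      have e : g⁻¹ * ((z * z' * z⁻¹)⁻¹ * z' * (z * z' * z⁻¹) * z'⁻¹) * g * z
          = (g⁻¹ * z * g * z * (g⁻¹ * z * g)⁻¹)⁻¹ * z * (g⁻¹ * z * g * z * (g⁻¹ * z * g)⁻¹) := by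
        rw [hz']
        group
      rwa [e] at h6
    have h6 := h.emb_all hz hzp hz1 h5
    have h7 := h.emb_all hz hzp hz1 (g := (g⁻¹ * z * g)⁻¹) (by rw [inv_inv]; exact h6)
    have h8 : g⁻¹ * z * g ∈ H := by simpa using H.inv_mem h7
    exact hg (h.emb_all hz hzp hz1 h8)

/-- The torus element. -/
theorem SE.torus (h : SE p H R) (hρ : ρ.ker ≤ H) {z : Γ} (hz : z ∈ H)
    (hzp : IsPGroup p (Subgroup.zpowers z)) (hcard : Nat.card (com (ρ z)) = p)
    (hcf : com (ρ z) ≤ fix (ρ z)) {g : Γ} (hg : g ∉ H) {l l' : ℤ} (hl : (p : ℤ) ∣ l * l' - 1) :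
    ∃ k ∈ H, (∀ x ∈ com (ρ z), ρ k x = x ^ l) ∧ (∀ x ∈ com (ρ (g * z * g⁻¹)), ρ k x = x ^ l') ∧
      ∀ x ∈ fix (ρ z) ⊓ fix (ρ (g * z * g⁻¹)), ρ k x = x := by
  obtain ⟨_, ⟨k, rfl⟩, h1, h2, h3, h4⟩ := (h.tw hρ hz hzp hcard hcf hg).torus hl
  refine ⟨k, ?_, h1, h2, h3⟩
  have hz1 : z ≠ 1 := by
    rintro rfl
    have h1 : com (ρ (1 : Γ)) = ⊥ := by
      rw [eq_bot_iff]
      rintro _ ⟨x, rfl⟩
      simp [del_apply]
    rw [h1, Subgroup.card_bot] at hcard
    exact hp.out.one_lt.ne hcard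
  have h5 : k * z * k⁻¹ * (z ^ (l ^ 2))⁻¹ ∈ H := by
    apply hρ
    rw [MonoidHom.mem_ker, map_mul, map_mul, map_mul, map_inv, map_inv, h4, map_zpow, mul_inv_cancel]
  have h6 : k * z * k⁻¹ ∈ H := by
    have := H.mul_mem h5 (H.zpow_mem hz (l ^ 2))
    simpa using this
  have h7 := h.emb_all hz hzp hz1 (g := k⁻¹) (by rw [inv_inv]; exact h6)
  simpa using H.inv_mem h7

end SE

end Cfsg.Agent.H786
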