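import Cfsg.Agent.H786.Coord

/-!
# Weights of the automorphisms normalizing the Sylow subgroup (helper786)
-/

set_option autoImplicit false

namespace Cfsg.Agent.H786

open Subgroup Cfsg.Agent.H467.MaxClass
open scoped commutatorElement

universe u v

variable {P : Type u} [Group P] {p n : ℕ} {W : ℕ → Subgroup P}

open Classical in
/-- the automorphism `a` of `M` as a function on `P` -/
noncomputable def ap {M : Subgroup P} (a : MulAut M) (x : P) : P :=
  if h : x ∈ M then ((a ⟨x, h⟩ : M) : P) else 1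

section ap

variable {M : Subgroup P}

theorem ap_of_mem (a : MulAut M) {x : P} (h : x ∈ M) : ap a x = ((a ⟨x, h⟩ : M) : P) := by
  rw [ap, dif_pos h]

theorem ap_coe (a : MulAut M) (x : M) : ap a (x : P) = ((a x : M) : P) := by
  rw [ap_of_mem a x.2]

theorem ap_mem (a : MulAut M) (x : P) : ap a x ∈ M := by
  rw [ap]
  split_ifs
  · exact SetLike.coe_mem _
  · exact one_mem _

theorem ap_mul (a : MulAut M) {x y : P} (hx : x ∈ M) (hy : y ∈ M) : ap a (x * y) = ap a x * ap a y := by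
  rw [ap_of_mem a hx, ap_of_mem a hy, ap_of_mem a (mul_mem hx hy), ← Subgroup.coe_mul, ← map_mul]
  rfl

theorem ap_one (a : MulAut M) : ap a (1 : P) = 1 := by
  rw [ap_of_mem a (one_mem M)]
  have : (⟨1, one_mem M⟩ : M) = 1 := rfl
  rw [this, map_one]
  rfl

theorem ap_inv (a : MulAut M) {x : P} (hx : x ∈ M) : ap a x⁻¹ = (ap a x)⁻¹ := by
  rw [ap_of_mem a hx, ap_of_mem a (inv_mem hx), ← Subgroup.coe_inv, ← map_inv]
  rfl

theorem ap_comm (a : MulAut M) {x y : P} (hx : x ∈ M) (hy : y ∈ M) :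
    ap a ⁅x, y⁆ = ⁅ap a x, ap a y⁆ := by
  rw [commutatorElement_def, commutatorElement_def,
    ap_mul a (mul_mem (mul_mem hx hy) (inv_mem hx)) (inv_mem hy),
    ap_mul a (mul_mem hx hy) (inv_mem hx), ap_mul a hx hy, ap_inv a hx, ap_inv a hy]

theorem ap_mul_aut (a b : MulAut M) (x : P) (hx : x ∈ M) : ap (a * b) x = ap a (ap b x) := by
  rw [ap_of_mem _ hx, ap_of_mem b hx, ap_coe]
  rfl

theorem aInv_iff {A : Subgroup (MulAut M)} {B : Subgroup P} :
    AInv A B ↔ ∀ a ∈ A, ∀ x ∈ M, x ∈ B → ap a x ∈ B := by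
  constructor
  · intro h a ha x hx hxB
    rw [ap_of_mem a hx]
    exact h a ha ⟨x, hx⟩ hxB
  · intro h a ha e he
    rw [← ap_coe]
    exact h a ha e e.2 he

end ap

/-- `A` normalizes the group induced by `P` -/
def PClosed {P : Type u} [Group P] {M : Subgroup P} [M.Normal] (A : Subgroup (MulAut M)) : Prop :=
  ∀ a ∈ A, ∀ c ∈ conjGrp M, a * c * a⁻¹ ∈ conjGrp M

variable [hW1 : (W 1).Normal] {A : Subgroup (MulAut (W 1))}

theorem PClosed.exists_conj (h : PClosed A) {a : MulAut (W 1)} (ha : a ∈ A) (y : P) :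
    ∃ y' : P, ∀ w ∈ W 1, ap a (y * w * y⁻¹) = y' * ap a w * y'⁻¹ := by
  obtain ⟨y', hy'⟩ := h a ha (MulAut.conjNormal y) ⟨y, rfl⟩
  refine ⟨y', fun w hw => ?_⟩
  have h1 : a * MulAut.conjNormal y = MulAut.conjNormal y' * a := by
    rw [hy', inv_mul_cancel_right]
  have h2 := congrArg (fun f : MulAut (W 1) => ((f ⟨w, hw⟩ : W 1) : P)) h1
  simp only [MulAut.mul_apply] at h2
  rw [MulAut.conjNormal_apply, ← ap_of_mem a hw, ← ap_coe, MulAut.conjNormal_apply] at h2
  exact h2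

theorem PClosed.exists_comm (h : PClosed A) {a : MulAut (W 1)} (ha : a ∈ A) (y : P) :
    ∃ y' : P, ∀ w ∈ W 1, ap a ⁅w, y⁆ = ⁅ap a w, y'⁆ := by
  obtain ⟨y', hy'⟩ := h.exists_conj ha y
  refine ⟨y', fun w hw => ?_⟩
  have e : ⁅w, y⁆ = w * (y * w⁻¹ * y⁻¹) := by simp only [commutatorElement_def]; group
  rw [e, ap_mul a hw (hW1.conj_mem _ (inv_mem hw) y), hy' _ (inv_mem hw), ap_inv a hw]
  simp only [commutatorElement_def]; group

theorem PClosed.aInv (h : PClosed A) (mc : MC P p n W) [hp : Fact p.Prime] :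
    ∀ i, 1 ≤ i → AInv A (W i) := by
  intro i hi
  induction i, hi using Nat.le_induction with
  | base =>
    intro a _ e _
    exact SetLike.coe_mem _
  | succ i hi ih =>
    rw [aInv_iff] at ih ⊢
    intro a ha x hx hxB
    obtain ⟨y', hy'⟩ : ∃ f : P → P, ∀ y, ∀ w ∈ W 1, ap a ⁅w, y⁆ = ⁅ap a w, f y⁆ := by
      choose f hf using fun y => h.exists_comm ha y
      exact ⟨f, hf⟩
    rw [← mc.comm_eq hi] at hxB
    have hle : W i ≤ W 1 := mc.antitone hi
    have key : ∀ x ∈ ⁅W i, (⊤ : Subgroup P)⁆, ap a x ∈ W (i + 1) := by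
      intro x hx
      rw [Subgroup.commutator_def] at hx
      induction hx using Subgroup.closure_induction with
      | mem x hx =>
        obtain ⟨w, hw, y, -, rfl⟩ := hx
        rw [hy' y w (hle hw)]
        exact mc.comm_mem (ih a ha w (hle hw) hw)
      | one => rw [ap_one]; exact one_mem _
      | mul x y hx hy hx' hy' =>
        have hx1 : x ∈ W 1 := by
          have : x ∈ ⁅W i, (⊤ : Subgroup P)⁆ := by rw [Subgroup.commutator_def]; exact hx
          exact mc.antitone (by omega) (mc.comm_le i this)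
        have hy1 : y ∈ W 1 := by
          have : y ∈ ⁅W i, (⊤ : Subgroup P)⁆ := by rw [Subgroup.commutator_def]; exact hy
          exact mc.antitone (by omega) (mc.comm_le i this)
        rw [ap_mul a hx1 hy1]
        exact mul_mem hx' hy'
      | inv x hx hx' =>
        have hx1 : x ∈ W 1 := by
          have : x ∈ ⁅W i, (⊤ : Subgroup P)⁆ := by rw [Subgroup.commutator_def]; exact hx
          exact mc.antitone (by omega) (mc.comm_le i this)
        rw [ap_inv a hx1]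
        exact inv_mem hx'
    exact key x hxB

variable {φ : ℕ → P → ZMod p}

omit hW1 in
/-- the weight of an automorphism on an invariant layer -/
theorem exists_scalar (hφ : Coord p n W φ) (mc : MC P p n W) [hp : Fact p.Prime] {a : MulAut (W 1)}
    (ha : a ∈ A) {i : ℕ} (hi1 : 1 ≤ i) (hi : i < n) (h1 : AInv A (W i)) (h2 : AInv A (W (i + 1))) :
    ∃ c : ZMod p, c ≠ 0 ∧ ∀ w ∈ W i, φ i (ap a w) = c * φ i w := by
  rw [aInv_iff] at h1 h2
  have hle : W i ≤ W 1 := mc.antitone hi1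
  have key : ∀ a ∈ A, ∃ c : ZMod p, ∀ w ∈ W i, φ i (ap a w) = c * φ i w := by
    intro a ha
    apply hφ.eq_smul mc hi (fun w => φ i (ap a w))
    · intro w hw w' hw'
      rw [ap_mul a (hle hw) (hle hw')]
      exact hφ.mul i hi _ (h1 a ha w (hle hw) hw) _ (h1 a ha w' (hle hw') hw')
    · intro w hw
      have hw1 := mc.le_succ i hw
      exact (hφ.zero i hi _ (h1 a ha w (hle hw1) hw1)).mpr (h2 a ha w (hle hw1) hw)
  obtain ⟨c, hc⟩ := key a ha
  obtain ⟨c', hc'⟩ := key a⁻¹ (inv_mem ha)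
  refine ⟨c, ?_, hc⟩
  rintro rfl
  obtain ⟨w, hw, hw1⟩ := hφ.exists_eq_one mc hi
  have e1 := hc (ap a⁻¹ w) (h1 a⁻¹ (inv_mem ha) w (hle hw) hw)
  rw [zero_mul, ← ap_mul_aut a a⁻¹ w (hle hw), mul_inv_cancel, ap_of_mem _ (hle hw)] at e1
  change φ i w = 0 at e1
  rw [hw1] at e1
  exact one_ne_zero e1

/-- **Weights.** -/
theorem PClosed.weights (h : PClosed A) (hφ : Coord p n W φ) (mc : MC P p n W) [hp : Fact p.Prime]
    (deg : ∀ i j, 1 ≤ i → 1 ≤ j → ⁅W i, W j⁆ ≤ W (i + j + 1)) {a : MulAut (W 1)} (ha : a ∈ A) :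
    ∃ b a0 : ZMod p, b ≠ 0 ∧ a0 ≠ 0 ∧
      ∀ i, i + 1 < n → ∀ w ∈ W (i + 1), φ (i + 1) (ap a w) = b * a0 ^ i * φ (i + 1) w := by
  have h4 := mc.four_le
  choose! c hc0 hc using fun (i : ℕ) (hi : 1 ≤ i ∧ i < n) =>
    exists_scalar hφ mc ha hi.1 hi.2 (h.aInv mc i hi.1) (h.aInv mc (i + 1) (by omega))
  obtain ⟨x, hx, hx1⟩ := hφ.exists_eq_one mc (i := 0) (by omega)
  obtain ⟨x', hx'⟩ := h.exists_comm ha x
  have hx0 : x' ∈ W 0 := by rw [mc.zero]; trivial
  have step : ∀ i, 1 ≤ i → i + 1 < n → c (i + 1) = c i * φ 0 x' := by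
    intro i hi hin
    obtain ⟨β, hβ⟩ := hφ.pairing mc (i := i) (j := 0) (m := i + 1) (by omega) (by omega) hin
      (by rw [mc.zero]; exact mc.comm_le i) (by rw [mc.zero]; exact mc.comm_le (i + 1))
      (deg i 1 hi le_rfl)
    have hβ0 : β ≠ 0 := by
      rintro rfl
      have h1 : ⁅W i, (⊤ : Subgroup P)⁆ ≤ W (i + 1 + 1) := by
        rw [Subgroup.commutator_le]
        intro w hw y _
        have hy : y ∈ W 0 := by rw [mc.zero]; trivial
        have := hβ w hw y hy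
        rw [zero_mul, zero_mul] at this
        exact (hφ.zero (i + 1) hin _ (mc.comm_mem hw)).mp this
      rw [mc.comm_eq hi] at h1
      obtain ⟨w, hw, hw'⟩ := mc.ne_succ hin
      exact hw' (h1 hw)
    obtain ⟨w, hw, hw1⟩ := hφ.exists_eq_one mc (i := i) (by omega)
    have hle : W i ≤ W 1 := mc.antitone hi
    have e1 : φ (i + 1) (ap a ⁅w, x⁆) = c (i + 1) * β := by
      rw [hc (i + 1) ⟨by omega, hin⟩ _ (mc.comm_mem hw), hβ w hw x hx, hw1, hx1]
      ring
    have haw : ap a w ∈ W i := aInv_iff.mp (h.aInv mc i hi) a ha w (hle hw) hw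
    have e2 : φ (i + 1) (ap a ⁅w, x⁆) = β * c i * φ 0 x' := by
      rw [hx' w (hle hw), hβ _ haw x' hx0, hc i ⟨hi, by omega⟩ w hw, hw1]
      ring
    have e3 : β * c (i + 1) = β * (c i * φ 0 x') := by rw [← mul_assoc, ← e2, e1, mul_comm]
    exact mul_left_cancel₀ hβ0 e3
  have ha0 : φ 0 x' ≠ 0 := by
    intro e
    have := step 1 le_rfl (by omega)
    rw [e, mul_zero] at this
    exact hc0 2 ⟨by omega, by omega⟩ this
  refine ⟨c 1, φ 0 x', hc0 1 ⟨le_rfl, by omega⟩, ha0, ?_⟩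
  have hci : ∀ i, i + 1 < n → c (i + 1) = c 1 * φ 0 x' ^ i := by
    intro i
    induction i with
    | zero => intro _; rw [pow_zero, mul_one]
    | succ i ih =>
      intro hi
      rw [step (i + 1) (by omega) hi, ih (by omega), pow_succ, mul_assoc]
  intro i hi w hw
  rw [hc (i + 1) ⟨by omega, hi⟩ w hw, hci i hi]

end Cfsg.Agent.H786
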