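import Cfsg.Agent.H786.SupKer
import Cfsg.Agent.H786.TwoTr

/-!
# The core lemma, `p`-closed case: transvections (helper786)
-/

set_option autoImplicit false
set_option linter.unusedSectionVars false

namespace Cfsg.Agent.H786

open Subgroup Cfsg.Agent.H467.MaxClass Cfsg.Agent.H785
open scoped commutatorElement

universe u v

namespace Cfg

variable {P : Type u} [Group P] [Finite P] {p n : ℕ} [hp : Fact p.Prime] {W : ℕ → Subgroup P}
  [hW1 : (W 1).Normal] {A : Subgroup (MulAut (W 1))} {E V : Subgroup P} {Γ : Type v} [Group Γ]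
  [Finite Γ] {ρ : Γ →* MulAut V} {H : Subgroup Γ} {τ : (normalizer (E : Set P)) →* Γ}

/-- `V` as a commutative group -/
@[reducible] def vComm (c : Cfg p n W A E V ρ H τ) : CommGroup V :=
  { (inferInstance : Group V) with
    mul_comm := fun a b => Subtype.ext (c.V_commute a.2 b.2) }

/-- **Transvections, `p`-closed case.** -/
theorem caseA1 (c : Cfg p n W A E V ρ H τ) (hρ : ρ.ker ≤ H) (hpc : PClosed A) {a κ : ℕ}
    (ha1 : 1 ≤ a) (hVa : V ≤ W a) (hκ : 3 ≤ κ) (haκ : a + κ ≤ n - 1) (haq : n - 1 - a ≤ p - 1)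
    {z : normalizer (E : Set P)} (hz : ∀ v ∈ V, v ∈ W (a + 1) → Commute (z : P) v)
    (hza : ∃ v ∈ V, v ∉ W (a + 1))
    (hzκ : ∀ v ∈ V, ⁅(z : P), v⁆ ∈ W (a + κ))
    (hzκ' : ∀ v ∈ V, v ∉ W (a + 1) → ⁅(z : P), v⁆ ∉ W (a + κ + 1)) : GInv ρ (W (n - 1)) := by
  let _ := c.vComm
  have h4 := c.mc.four_le
  have h5 := c.five
  -- basic facts on the action of `z`
  have hact : ∀ v : V, (ρ (τ z) v : P) = ⁅(z : P), (v : P)⁆ * v := by
    intro v
    rw [c.ρτ]
    simp only [commutatorElement_def]; group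
  have hdel : ∀ v : V, ((del (ρ (τ z)) v : V) : P) = (v : P)⁻¹ * ⁅(z : P), (v : P)⁆ * v := by
    intro v
    rw [del_apply, Subgroup.coe_mul, hact, Subgroup.coe_inv, mul_assoc]
  have hcommV : ∀ v : V, ⁅(z : P), (v : P)⁆ ∈ V := by
    intro v
    have h1 := V.mul_mem (SetLike.coe_mem (ρ (τ z) v)) (V.inv_mem v.2)
    rwa [hact, mul_inv_cancel_right] at h1
  have hdel' : ∀ v : V, ((del (ρ (τ z)) v : V) : P) = ⁅(z : P), (v : P)⁆ := by
    intro v
    rw [hdel, mul_assoc, (c.V_commute (hcommV v) v.2).eq, inv_mul_cancel_left]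
  have hfix : ∀ v : V, v ∈ fix (ρ (τ z)) ↔ (v : P) ∈ W (a + 1) := by
    intro v
    rw [mem_fix]
    have h1 : ρ (τ z) v = v ↔ ⁅(z : P), (v : P)⁆ = 1 := by
      rw [← Subtype.coe_inj, hact, mul_eq_right]
    rw [h1]
    constructor
    · intro h2
      by_contra h3
      apply hzκ' v v.2 h3
      rw [h2]; exact one_mem _
    · intro h2
      exact commutatorElement_eq_one_iff_commute.mpr (hz v v.2 h2)
  have hcom : ∀ d ∈ com (ρ (τ z)), (d : P) ∈ W (a + κ) := by
    rintro _ ⟨v, rfl⟩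
    rw [hdel']
    exact hzκ v v.2
  have hcom' : ∀ d ∈ com (ρ (τ z)), d ≠ 1 → (d : P) ∉ W (a + κ + 1) := by
    rintro _ ⟨v, rfl⟩ hd
    rw [hdel']
    apply hzκ' v v.2
    intro h2
    apply hd
    exact (hfix v).mpr h2
  have hcf : com (ρ (τ z)) ≤ fix (ρ (τ z)) := by
    intro d hd
    rw [hfix]
    exact c.mc.antitone (by omega) (hcom d hd)
  -- the commutator subgroup has order `p`
  have hcard : Nat.card (com (ρ (τ z))) = p := by
    have h1 := card_com_mul_card_fix (ρ (τ z))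
    have h2 : (fix (ρ (τ z))).index = p := by
      have h3 : fix (ρ (τ z)) = (W (a + 1)).subgroupOf V := by
        ext v
        rw [hfix, mem_subgroupOf]
      rw [h3]
      show (W (a + 1)).relIndex V = p
      have h6 : (W (a + 1)).relIndex V ∣ (W (a + 1)).relIndex (W a) := by
        have := c.mc.normal (a + 1)
        have h8 := Subgroup.relIndex_subgroupOf (H := W (a + 1)) hVa
        rw [← h8]
        exact Subgroup.relIndex_dvd_index_of_normal _ _
      rw [c.mc.relIndex a (by omega)] at h6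
      rcases (Nat.dvd_prime hp.out).mp h6 with h7 | h7
      · rw [Subgroup.relIndex_eq_one] at h7
        obtain ⟨v, hv, hv'⟩ := hza
        exact absurd (h7 hv) hv'
      · exact h7
    have h3 := (fix (ρ (τ z))).card_mul_index
    rw [h2] at h3
    have h6 : 0 < Nat.card (fix (ρ (τ z))) := Nat.card_pos
    rw [← h3, mul_comm] at h1
    exact Nat.eq_of_mul_eq_mul_left h6 h1
  have hAW := hpc.aInv c.mc
  obtain ⟨φ, hφ⟩ := exists_coord c.mc
  have hzE : (z : P) ∉ E := by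
    intro h
    obtain ⟨v, hv, hv'⟩ := hza
    apply hzκ' v hv hv'
    rw [commutatorElement_eq_one_iff_commute.mpr (c.V_comm hv h)]
    exact one_mem _
  apply c.lemmaF' c.W_sub_one_le_V (hAW (n - 1) (by omega)) hzE
  intro g v hv
  have goal_iff : ∀ v : V, Commute (z : P) (v : P) ↔ v ∈ fix (ρ (τ z)) := by
    intro v
    rw [mem_fix, ← Subtype.coe_inj, hact, mul_eq_right, commutatorElement_eq_one_iff_commute]
  rw [goal_iff]
  have hle1 : W (n - 1) ≤ W (a + 1) := c.mc.antitone (by omega)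
  by_cases hg : g ∈ H
  · rw [hfix]
    exact hle1 (c.H_inv (hAW (n - 1) (by omega)) hg hv)
  -- the torus element
  have hg' : g⁻¹ ∉ H := fun h => hg (by simpa using H.inv_mem h)
  have hzp : IsPGroup p (zpowers (τ z)) := by
    have h1 : IsPGroup p (zpowers z) := (c.pgroup.to_subgroup _).to_subgroup _
    have := h1.map τ
    rwa [MonoidHom.map_zpowers] at this
  obtain ⟨ζ, hζ⟩ := IsCyclic.exists_generator (α := (ZMod p)ˣ)
  have hl : (p : ℤ) ∣ (((ζ : ZMod p).val : ℕ) : ℤ) * ((((ζ⁻¹ : (ZMod p)ˣ) : ZMod p).val : ℕ) : ℤ) - 1 := by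
    rw [← ZMod.intCast_zmod_eq_zero_iff_dvd]
    push_cast
    simp only [ZMod.natCast_val, ZMod.cast_id', id_eq]
    rw [mul_inv_cancel₀ (Units.ne_zero ζ), sub_self]
  have htw := c.se.tw hρ (c.τ_mem z) hzp hcard hcf hg'
  obtain ⟨k, hkH, hk1, hk2, hk3⟩ := c.se.torus hρ (c.τ_mem z) hzp hcard hcf hg' hl
  set s' := ρ (g⁻¹ * τ z * g⁻¹⁻¹) with hs'
  have hmem : ∀ w : V, ρ g w ∈ fix (ρ (τ z)) ↔ w ∈ fix s' := by
    intro w
    have : s' = (ρ g)⁻¹ * ρ (τ z) * (ρ g)⁻¹⁻¹ := by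
      simp only [hs', map_mul, map_inv]
    rw [this, mem_fix_conj, inv_inv]
  rw [hmem]
  have hvf : v ∈ fix (ρ (τ z)) := (hfix v).mpr (hle1 hv)
  obtain ⟨d, hd, hd1, hd2⟩ := htw.fix_le hvf
  by_cases hd0 : d = 1
  · rw [hd0, mul_one] at hd2
    exact hd2
  exfalso
  have hdidx := hcom' d hd hd0
  have hdW := hcom d hd
  -- scalars of `k`
  obtain ⟨α, hα, -, hαk⟩ := c.ext_ap hkH
  obtain ⟨b, a0, hb0, ha00, hwt⟩ := hpc.weights hφ c.mc c.deg hα
  have hwt' : ∀ i, 1 ≤ i → i < n → ∀ w ∈ W i, φ i (ap α w) = b * a0 ^ (i - 1) * φ i w := by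
    intro i hi hin w hw
    obtain ⟨j, rfl⟩ : ∃ j, i = j + 1 := ⟨i - 1, by omega⟩
    exact hwt j hin w hw
  have hζval : (((ζ : ZMod p).val : ℕ) : ZMod p) = ζ := by
    rw [ZMod.natCast_val, ZMod.cast_id', id_eq]
  have hζval' : ((((ζ⁻¹ : (ZMod p)ˣ) : ZMod p).val : ℕ) : ZMod p) = ((ζ⁻¹ : (ZMod p)ˣ) : ZMod p) := by
    rw [ZMod.natCast_val, ZMod.cast_id', id_eq]
  have hcardU : orderOf ζ = p - 1 := by
    rw [orderOf_eq_card_of_forall_mem_zpowers hζ, Nat.card_eq_fintype_card, ZMod.card_units]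
  have hζ1 : (ζ : ZMod p) ≠ 1 := by
    intro h
    have h1 : ζ = 1 := Units.ext h
    rw [h1, orderOf_one] at hcardU
    omega
  -- weight at `a + κ`
  have hle : W (a + κ) ≤ W 1 := c.mc.antitone (by omega)
  have hdw : b * a0 ^ (a + κ - 1) = ζ := by
    have e1 := hwt' (a + κ) (by omega) (by omega) _ hdW
    rw [hαk, hk1 d hd, zpow_natCast, Subgroup.coe_pow, hφ.pow (by omega) hdW, hζval] at e1
    have e2 : φ (a + κ) (d : P) ≠ 0 := fun h => hdidx ((hφ.zero _ (by omega) _ hdW).mp h)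
    exact (mul_right_cancel₀ e2 e1).symm
  rcases Nat.lt_or_ge (a + κ) (n - 1) with hlt | hge
  · -- `v d` is fixed by `k` and has index `a + κ`
    have hvdW : ((v * d : V) : P) ∈ W (a + κ) := by
      rw [Subgroup.coe_mul]
      exact mul_mem (c.mc.antitone (by omega) hv) hdW
    have e1 := hwt' (a + κ) (by omega) (by omega) _ hvdW
    rw [hαk, hk3 _ ⟨hd1, hd2⟩, hdw] at e1
    have e2 : φ (a + κ) ((v * d : V) : P) ≠ 0 := by
      rw [Subgroup.coe_mul, hφ.mul_left (by omega) hdW (c.mc.antitone (by omega) hv)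
        (c.mc.le_succ _)]
      exact fun h => hdidx ((hφ.zero _ (by omega) _ hdW).mp h)
    have e3 : (1 : ZMod p) * φ (a + κ) ((v * d : V) : P) = ζ * φ (a + κ) ((v * d : V) : P) := by
      rw [one_mul]; exact e1
    exact hζ1 (mul_right_cancel₀ e2 e3).symm
  · have haκ' : a + κ = n - 1 := by omega
    -- weight at `n - 2`
    have hw2 : b * a0 ^ (n - 2 - 1) = 1 := by
      obtain ⟨w, hw, hw'⟩ := c.mc.ne_succ (i := n - 2) (by omega)
      have hwV := c.W_sub_two_le_V hw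
      have hwf : (⟨w, hwV⟩ : V) ∈ fix (ρ (τ z)) := by
        rw [hfix]
        exact c.mc.antitone (by omega) hw
      obtain ⟨e, he, he1⟩ := htw.fix_le hwf
      have heW : (e : P) ∈ W (n - 2 + 1) := c.mc.antitone (by omega) (hcom e he)
      have hweW : (((⟨w, hwV⟩ : V) * e : V) : P) ∈ W (n - 2) := by
        rw [Subgroup.coe_mul]
        exact mul_mem hw (c.mc.le_succ _ heW)
      have e1 := hwt' (n - 2) (by omega) (by omega) _ hweW
      rw [hαk, hk3 _ he1] at e1
      have e2 : φ (n - 2) (((⟨w, hwV⟩ : V) * e : V) : P) ≠ 0 := by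
        rw [Subgroup.coe_mul, hφ.mul_right (by omega) hw heW (c.mc.le_succ _)]
        exact fun h => hw' ((hφ.zero _ (by omega) _ hw).mp h)
      have e3 : (1 : ZMod p) * φ (n - 2) (((⟨w, hwV⟩ : V) * e : V) : P) =
          b * a0 ^ (n - 2 - 1) * φ (n - 2) (((⟨w, hwV⟩ : V) * e : V) : P) := by
        rw [one_mul]; exact e1
      exact (mul_right_cancel₀ e2 e3).symm
    -- weight at `a`
    have hwa : b * a0 ^ (a - 1) = ((ζ⁻¹ : (ZMod p)ˣ) : ZMod p) := by
      have hnt : Nontrivial (com s') := by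
        rw [← Finite.one_lt_card_iff_nontrivial, htw.cs']
        exact hp.out.one_lt
      obtain ⟨⟨e, he⟩, he1⟩ := exists_ne (1 : com s')
      have he1' : e ≠ 1 := fun h => he1 (Subtype.ext h)
      have heW : (e : P) ∉ W (a + 1) := by
        intro h
        exact he1' (htw.symm.com_inf_fix he ((hfix e).mpr h))
      have heW' : (e : P) ∈ W a := hVa e.2
      have e1 := hwt' a ha1 (by omega) _ heW'
      rw [hαk, hk2 e he, zpow_natCast, Subgroup.coe_pow, hφ.pow (by omega) heW', hζval'] at e1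
      have e2 : φ a (e : P) ≠ 0 := fun h => heW ((hφ.zero _ (by omega) _ heW').mp h)
      exact (mul_right_cancel₀ e2 e1).symm
    -- `a0 = ζ`
    have h6 : a0 = ζ := by
      have e1 : b * a0 ^ (a + κ - 1) = b * a0 ^ (n - 2 - 1) * a0 := by
        rw [mul_assoc, ← pow_succ]
        congr 2
        omega
      rw [hdw, hw2, one_mul] at e1
      exact e1.symm
    have h7 : b * a0 ^ (n - 2 - 1) = b * a0 ^ (a - 1) * a0 ^ (κ - 1) := by
      rw [mul_assoc, ← pow_add]
      congr 2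
      omega
    rw [hw2, hwa, h6] at h7
    have h8 : (ζ ^ (κ - 2) : (ZMod p)ˣ) = 1 := by
      apply Units.ext
      rw [Units.val_pow_eq_pow_val, Units.val_one, h7]
      have e3 : κ - 1 = (κ - 2) + 1 := by omega
      rw [e3, pow_succ, mul_comm, mul_assoc, Units.mul_inv, mul_one]
    have h9 : p - 1 ∣ κ - 2 := by
      rw [← hcardU]
      exact orderOf_dvd_of_pow_eq_one h8
    have := Nat.le_of_dvd (by omega) h9
    omega

end Cfg

end Cfsg.Agent.H786
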