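import Cfsg.Agent.H786.MLin

/-!
# Leading terms (helper786)

The abstract form of the case `t = 2` of the core lemma.
-/

set_option autoImplicit false
set_option linter.unusedSectionVars false
set_option linter.deprecated false
set_option linter.unusedVariables false

namespace Cfsg.Agent.H786

open Module

section Average

variable {p : ℕ} [hp : Fact p.Prime] {G : Type*} [Group G] [Finite G] {Y : Type*} [AddCommGroup Y]
  [Module (ZMod p) Y]

/-- **Averaging** over the cosets of `Q` in `H`. -/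
theorem exists_average (ρ : Representation (ZMod p) G Y) {H Q : Subgroup G} (hQH : Q ≤ H)
    (hidx : ¬ p ∣ Q.relIndex H) (N : Submodule (ZMod p) Y) (f : Y) (hQ : ∀ u ∈ Q, ρ u f = f)
    (hN : ∀ h ∈ H, ρ h f - f ∈ N) : ∃ f', (∀ h ∈ H, ρ h f' = f') ∧ f' - f ∈ N := by
  classical
  have := Fintype.ofFinite G
  have hfq : Fintype (H ⧸ Q.subgroupOf H) := Fintype.ofFinite _
  let F : H ⧸ Q.subgroupOf H → Y := Quotient.lift (s := QuotientGroup.leftRel _)
    (fun h => ρ (h : G) f) (by
      intro a b hab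
      have hab' : a⁻¹ * b ∈ Q.subgroupOf H := QuotientGroup.leftRel_apply.mp hab
      rw [Subgroup.mem_subgroupOf] at hab'
      show ρ (a : G) f = ρ (b : G) f
      have e : (b : G) = a * ((a⁻¹ * b : H) : G) := by push_cast; group
      rw [e, map_mul, Module.End.mul_apply, hQ _ hab'])
  have hF : ∀ h : H, F (QuotientGroup.mk h) = ρ (h : G) f := fun h => rfl
  have hFs : ∀ (g : H) (x : H ⧸ Q.subgroupOf H), F (g • x) = ρ (g : G) (F x) := by
    intro g x
    obtain ⟨a, rfl⟩ := QuotientGroup.mk_surjective x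
    rw [MulAction.Quotient.smul_mk, hF, hF, smul_eq_mul, Subgroup.coe_mul, map_mul,
      Module.End.mul_apply]
  set k : ZMod p := ((Fintype.card (H ⧸ Q.subgroupOf H) : ℕ) : ZMod p) with hk
  have hk0 : k ≠ 0 := by
    intro h
    rw [hk, ZMod.natCast_eq_zero_iff, ← Nat.card_eq_fintype_card] at h
    exact hidx h
  refine ⟨k⁻¹ • ∑ x, F x, ?_, ?_⟩
  · intro h hh
    rw [map_smul, map_sum]
    congr 1
    have h1 : ∀ x, ρ h (F x) = F ((⟨h, hh⟩ : H) • x) := fun x => (hFs ⟨h, hh⟩ x).symm
    simp_rw [h1]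
    exact Equiv.sum_comp (MulAction.toPerm (⟨h, hh⟩ : H)) F
  · have h1 : k⁻¹ • ∑ x, F x - f = k⁻¹ • ∑ x, (F x - f) := by
      rw [Finset.sum_sub_distrib, Finset.sum_const, Finset.card_univ, smul_sub,
        ← Nat.cast_smul_eq_nsmul (ZMod p), smul_smul, ← hk, inv_mul_cancel₀ hk0, one_smul]
    rw [h1]
    apply N.smul_mem
    apply Submodule.sum_mem
    intro x _
    obtain ⟨a, rfl⟩ := QuotientGroup.mk_surjective x
    rw [hF]
    exact hN a a.2

end Average

section Deg

variable {p : ℕ} [hp : Fact p.Prime] {U : Type*} [AddCommGroup U] [Module (ZMod p) U]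

/-- operators raising the filtration by `r` -/
def Deg (F : ℕ → Submodule (ZMod p) U) (r : ℕ) (Z : Module.End (ZMod p) U) : Prop :=
  ∀ i, ∀ u ∈ F i, Z u ∈ F (i + r)

theorem Deg.add {F : ℕ → Submodule (ZMod p) U} {r : ℕ} {Z Z' : Module.End (ZMod p) U}
    (h : Deg F r Z) (h' : Deg F r Z') : Deg F r (Z + Z') :=
  fun i u hu => (F _).add_mem (h i u hu) (h' i u hu)

theorem Deg.smul {F : ℕ → Submodule (ZMod p) U} {r : ℕ} {Z : Module.End (ZMod p) U}
    (h : Deg F r Z) (α : ZMod p) : Deg F r (α • Z) :=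
  fun i u hu => (F _).smul_mem α (h i u hu)

theorem Deg.mul {F : ℕ → Submodule (ZMod p) U} {r r' : ℕ} {Z Z' : Module.End (ZMod p) U}
    (h : Deg F r Z) (h' : Deg F r' Z') : Deg F (r + r') (Z * Z') := by
  intro i u hu
  have := h _ _ (h' i u hu)
  rw [show i + (r + r') = i + r' + r by ring]
  exact this

theorem Deg.pow {F : ℕ → Submodule (ZMod p) U} {r : ℕ} {Z : Module.End (ZMod p) U}
    (h : Deg F r Z) (j : ℕ) : Deg F (j * r) (Z ^ j) := by
  induction j with
  | zero => intro i u hu; simpa using hu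
  | succ j ih =>
    rw [pow_succ, show (j + 1) * r = j * r + r by ring]
    exact ih.mul h

theorem Deg.mono {F : ℕ → Submodule (ZMod p) U} (hF : Antitone F) {r r' : ℕ} (hr : r ≤ r')
    {Z : Module.End (ZMod p) U} (h : Deg F r' Z) : Deg F r Z :=
  fun i u hu => hF (by omega) (h i u hu)

/-- powers of operators with the same leading term -/
theorem Deg.pow_sub {F : ℕ → Submodule (ZMod p) U} {X Z : Module.End (ZMod p) U} {α : ZMod p}
    (hX : Deg F 1 X) (hZ : Deg F 1 Z) (hXZ : Deg F 2 (Z - α • X)) (j : ℕ) :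
    Deg F (j + 1) (Z ^ j - α ^ j • X ^ j) := by
  induction j with
  | zero =>
    intro i u _
    simp
  | succ j ih =>
    have e : Z ^ (j + 1) - α ^ (j + 1) • X ^ (j + 1) =
        Z ^ j * (Z - α • X) + α • ((Z ^ j - α ^ j • X ^ j) * X) := by
      rw [pow_succ, pow_succ, pow_succ, mul_sub, sub_mul, smul_sub, mul_smul_comm, smul_mul_assoc,
        smul_smul, mul_comm (α ^ j) α]
      abel
    rw [e]
    apply Deg.add
    · have := (hZ.pow j).mul hXZ
      rwa [show j * 1 + 2 = j + 1 + 1 by ring] at this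
    · exact (ih.mul hX).smul α

variable [Module.Finite (ZMod p) U]

/-- operators raising the filtration have trace zero -/
theorem Deg.trace_eq_zero {F : ℕ → Submodule (ZMod p) U} {d : ℕ} (hF : Antitone F) (h0 : F 0 = ⊤)
    (hd : F (d + 1) = ⊥) {Z : Module.End (ZMod p) U} (h : Deg F 1 Z) :
    LinearMap.trace (ZMod p) U Z = 0 := by
  have h1 : Z ^ (d + 1) = 0 := by
    apply LinearMap.ext
    intro u
    have h2 := h.pow (d + 1) 0 u (by rw [h0]; trivial)
    rw [zero_add, mul_one, hd, Submodule.mem_bot] at h2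
    exact h2
  have h3 : IsNilpotent Z := ⟨d + 1, h1⟩
  exact (LinearMap.isNilpotent_trace_of_isNilpotent h3).eq_zero

/-- the filtration on endomorphisms -/
def endFil (F : ℕ → Submodule (ZMod p) U) (d k : ℕ) : Submodule (ZMod p) (Module.End (ZMod p) U) where
  carrier := {A | ∀ i, ∀ u ∈ F i, A u ∈ F (i + k - d)}
  zero_mem' := fun i u _ => (F _).zero_mem
  add_mem' := fun {_ _} hA hB i u hu => (F _).add_mem (hA i u hu) (hB i u hu)
  smul_mem' := fun r _ hA i u hu => (F _).smul_mem r (hA i u hu)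

theorem mem_endFil {F : ℕ → Submodule (ZMod p) U} {d k : ℕ} {A : Module.End (ZMod p) U} :
    A ∈ endFil F d k ↔ ∀ i, ∀ u ∈ F i, A u ∈ F (i + k - d) := Iff.rfl

theorem endFil_trace {F : ℕ → Submodule (ZMod p) U} {d : ℕ} (hF : Antitone F) (h0 : F 0 = ⊤)
    (hd : F (d + 1) = ⊥) {k r : ℕ} {A Z : Module.End (ZMod p) U} (hA : A ∈ endFil F d k)
    (hZ : Deg F r Z) (hkr : d + 1 ≤ k + r) : LinearMap.trace (ZMod p) U (A * Z) = 0 := by
  apply Deg.trace_eq_zero hF h0 hd
  intro i u hu
  exact hF (by omega) (hA _ _ (hZ i u hu))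

theorem endFil_filData {F : ℕ → Submodule (ZMod p) U} {d : ℕ} (hF : Antitone F) (h0 : F 0 = ⊤)
    (hd : F (d + 1) = ⊥) (ι : Type*) [Fintype ι] :
    FilData (M := fun _ : ι => Module.End (ZMod p) U) (fun _ => endFil F d) (fun _ => 2 * d) where
  anti _ k k' hk A hA i u hu := hF (by omega) (hA i u hu)
  top _ := by
    rw [eq_top_iff]
    intro A _ i u hu
    rcases Nat.lt_or_ge d i with hi | hi
    · have h1 : u ∈ F (d + 1) := hF hi hu
      rw [hd, Submodule.mem_bot] at h1
      rw [h1, map_zero]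
      exact (F _).zero_mem
    · rw [show i + 0 - d = 0 by omega, h0]
      trivial
  bot _ := by
    rw [eq_bot_iff]
    intro A hA
    rw [Submodule.mem_bot]
    apply LinearMap.ext
    intro u
    have h1 := hA 0 u (by rw [h0]; trivial)
    rw [show 0 + (2 * d + 1) - d = d + 1 by omega, hd, Submodule.mem_bot] at h1
    exact h1

theorem endFil_jump {G : Type*} [Group G] {ρ : Representation (ZMod p) G U}
    {F : ℕ → Submodule (ZMod p) U} {d : ℕ} (hF : Antitone F) {x : G} {J : ℕ}
    (hx : ∀ k, ∀ y ∈ F k, ρ x y - y ∈ F (k + J)) (hx' : ∀ k, ∀ y ∈ F k, ρ x⁻¹ y - y ∈ F (k + J))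
    {k : ℕ} {A : Module.End (ZMod p) U} (hA : A ∈ endFil F d k) :
    Representation.linHom ρ ρ x A - A ∈ endFil F d (k + J) := by
  have hinv : ∀ k, ∀ y ∈ F k, ρ x y ∈ F k := by
    intro k y hy
    have := (F k).add_mem (hF (Nat.le_add_right k J) (hx k y hy)) hy
    rwa [sub_add_cancel] at this
  intro i u hu
  rw [LinearMap.sub_apply, Representation.linHom_apply, LinearMap.comp_apply, LinearMap.comp_apply]
  have e : ρ x (A (ρ x⁻¹ u)) - A u = ρ x (A (ρ x⁻¹ u - u)) + (ρ x (A u) - A u) := by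
    rw [map_sub, map_sub]; abel
  rw [e]
  apply (F _).add_mem
  · have h1 := hA _ _ (hx' i u hu)
    exact hF (by omega) (hinv _ _ h1)
  · exact hF (by omega) (hx _ _ (hA i u hu))

end Deg

/-- sums with bounded parts -/
theorem exists_parts {d q : ℕ} (hd : 1 ≤ d) (hq : 1 ≤ q) :
    ∃ (r : ℕ) (j : Fin (r + 1) → ℕ), (∀ l, j l ≤ d) ∧ ∑ l, j l = q ∧ r * d < q := by
  refine ⟨(q - 1) / d, fun l => if (l : ℕ) < (q - 1) / d then d else q - (q - 1) / d * d, ?_, ?_, ?_⟩
  · intro l
    dsimp only
    split_ifs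
    · exact le_rfl
    · have h1 := Nat.div_add_mod (q - 1) d
      have h2 := Nat.mod_lt (q - 1) (show 0 < d by omega)
      have h3 : (q - 1) / d * d = d * ((q - 1) / d) := mul_comm _ _
      omega
  · rw [Fin.sum_univ_castSucc]
    have h1 : ∀ l : Fin ((q - 1) / d), (if ((Fin.castSucc l : Fin ((q - 1) / d + 1)) : ℕ) < (q - 1) / d
        then d else q - (q - 1) / d * d) = d := by
      intro l
      rw [if_pos]
      simp
    simp_rw [h1]
    rw [Finset.sum_const, Finset.card_univ, Fintype.card_fin, smul_eq_mul, if_neg (by simp)]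
    have h2 : (q - 1) / d * d ≤ q - 1 := Nat.div_mul_le_self _ _
    omega
  · have h2 : (q - 1) / d * d ≤ q - 1 := Nat.div_mul_le_self _ _
    omega

section Leading

variable {p : ℕ} [hp : Fact p.Prime] {G : Type*} [Group G] [Finite G] {U : Type*} [AddCommGroup U]
  [Module (ZMod p) U] [Module.Finite (ZMod p) U]

/-- the product of traces -/
noncomputable def trForm {r : ℕ} (Z : Fin (r + 1) → Module.End (ZMod p) U) :
    MultilinearMap (ZMod p) (fun _ : Fin (r + 1) => Module.End (ZMod p) U) (ZMod p) :=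
  (MultilinearMap.mkPiAlgebra (ZMod p) (Fin (r + 1)) (ZMod p)).compLinearMap
    (fun l => LinearMap.trace (ZMod p) U ∘ₗ LinearMap.mulRight (ZMod p) (Z l))

theorem trForm_apply {r : ℕ} (Z : Fin (r + 1) → Module.End (ZMod p) U)
    (A : Fin (r + 1) → Module.End (ZMod p) U) :
    trForm Z A = ∏ l, LinearMap.trace (ZMod p) U (A l * Z l) := by
  rw [trForm, MultilinearMap.compLinearMap_apply, MultilinearMap.mkPiAlgebra_apply]
  rfl

theorem rep_trForm {r : ℕ} (ρ : Representation (ZMod p) G U)
    (Z : Fin (r + 1) → Module.End (ZMod p) U) (g : G) :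
    mlRep (fun _ : Fin (r + 1) => Representation.linHom ρ ρ) g (trForm Z) =
      trForm (fun l => ρ g * Z l * ρ g⁻¹) := by
  apply MultilinearMap.ext
  intro A
  rw [mlRep_apply, trForm_apply, trForm_apply]
  apply Finset.prod_congr rfl
  intro l _
  have e : (Representation.linHom ρ ρ g⁻¹ (A l)) * Z l = ρ g⁻¹ * (A l * (ρ g * Z l)) := by
    rw [Representation.linHom_apply, inv_inv]
    rfl
  rw [e, LinearMap.trace_mul_comm, mul_assoc]

/-- **Leading terms.** -/
theorem leading (ρ : Representation (ZMod p) G U) {F : ℕ → Submodule (ZMod p) U} {d : ℕ}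
    (hF : Antitone F) (h0 : F 0 = ⊤) (hd : F (d + 1) = ⊥) {H Q : Subgroup G} (hQH : Q ≤ H)
    (hfree : ∀ g, g ∉ H → ∀ u ∈ Q, g⁻¹ * u * g ∈ H → u = 1) {S : ℕ}
    (hQ : NChain p (fun x J => ∀ k, ∀ y ∈ F k, ρ x y - y ∈ F (k + J)) Q S)
    (hinv : ∀ x ∈ Q, ∀ k, ∀ y ∈ F k, ρ x y - y ∈ F (k + 0)) (hS : 3 ≤ S) (hd1 : 1 ≤ d)
    (hdq : d ≤ p - 1) (X : Module.End (ZMod p) U) (hX : Deg F 1 X) (hXd : X ^ d ≠ 0)
    (hXQ : ∀ x ∈ Q, ρ x * X * ρ x⁻¹ = X)
    (hXH : ∀ h ∈ H, ∃ α : ZMod p, α ≠ 0 ∧ Deg F 1 (ρ h * X * ρ h⁻¹) ∧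
      Deg F 2 (ρ h * X * ρ h⁻¹ - α • X))
    (hidx : ¬ p ∣ Q.relIndex H) {b : U} (hb : b ∈ F d)
    (hspan : Submodule.span (ZMod p) (Set.range fun g => ρ g b) = ⊤) : False := by
  have hp2 := hp.out.two_le
  obtain ⟨r, j, hj, hjq, hrq⟩ := exists_parts hd1 (show 1 ≤ p - 1 by omega)
  set q := p - 1 with hq
  set f := trForm (fun l => X ^ j l) with hf
  have hjump : ∀ (x : G) (J : ℕ), (∀ k, ∀ y ∈ F k, ρ x y - y ∈ F (k + J)) →
      JumpAll (M := fun _ : Fin (r + 1) => Module.End (ZMod p) U)
        (fun _ => Representation.linHom ρ ρ) (fun _ => endFil F d) x J := by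
    intro x J hx _ k A hA
    have h1 : JumpAll (M := fun _ : Unit => U) (fun _ => ρ) (fun _ => F) x J := fun _ => hx
    have h2 := JumpAll.inv (fun _ => hF) h1
    exact endFil_jump hF hx (h2 ()) hA
  have hfil := endFil_filData (d := d) hF h0 hd (Fin (r + 1))
  have hsumD : ∑ _l : Fin (r + 1), 2 * d = (r + 1) * (2 * d) := by
    rw [Finset.sum_const, Finset.card_univ, Fintype.card_fin, smul_eq_mul]
  have hsumj : ∑ l : Fin (r + 1), (d - j l) + q = (r + 1) * d := by
    rw [← hjq, ← Finset.sum_add_distrib]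
    have : ∀ l : Fin (r + 1), d - j l + j l = d := fun l => Nat.sub_add_cancel (hj l)
    simp_rw [this]
    rw [Finset.sum_const, Finset.card_univ, Fintype.card_fin, smul_eq_mul]
  have hXj : ∀ i, Deg F i (X ^ i) := by
    intro i
    have := hX.pow i
    rwa [mul_one] at this
  -- the key computation: two products with the same leading terms
  have hlead : ∀ (Z : Fin (r + 1) → Module.End (ZMod p) U) (α : ZMod p), α ≠ 0 →
      (∀ l, Deg F (j l) (Z l)) → (∀ l, Deg F (j l + 1) (Z l - α ^ j l • X ^ j l)) →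
      trForm Z - f ∈ mlFil (M := fun _ : Fin (r + 1) => Module.End (ZMod p) U)
        (fun _ => endFil F d) (fun _ => 2 * d) ((r + 1) * d + q + 1) := by
    intro Z α hα hZ hZX k A hA hk
    rw [MultilinearMap.sub_apply, hf, trForm_apply, trForm_apply, sub_eq_zero]
    rw [hsumD] at hk
    by_cases hcase : ∃ l, d + 1 ≤ k l + j l
    · obtain ⟨l, hl⟩ := hcase
      rw [Finset.prod_eq_zero (Finset.mem_univ l) (endFil_trace hF h0 hd (hA l) (hZ l) hl),
        Finset.prod_eq_zero (Finset.mem_univ l) (endFil_trace hF h0 hd (hA l) (hXj (j l)) hl)]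
    · push Not at hcase
      have hkl : ∀ l, k l = d - j l := by
        by_contra hne
        push Not at hne
        obtain ⟨l0, hl0⟩ := hne
        have h1 : ∑ l, k l < ∑ l : Fin (r + 1), (d - j l) := by
          apply Finset.sum_lt_sum
          · intro l _
            have := hcase l; have := hj l; omega
          · exact ⟨l0, Finset.mem_univ _, by have := hcase l0; have := hj l0; omega⟩
        have h2 : (r + 1) * (2 * d) = (r + 1) * d + (r + 1) * d := by ring
        omega
      have h1 : ∀ l, LinearMap.trace (ZMod p) U (A l * Z l) =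
          α ^ j l * LinearMap.trace (ZMod p) U (A l * X ^ j l) := by
        intro l
        have h2 := endFil_trace hF h0 hd (hA l) (hZX l)
          (by rw [hkl l]; have := hj l; omega)
        rw [mul_sub, map_sub, mul_smul_comm, map_smul, smul_eq_mul, sub_eq_zero] at h2
        exact h2
      simp_rw [h1]
      rw [Finset.prod_mul_distrib, Finset.prod_pow_eq_pow_sum, hjq, hq,
        ZMod.pow_card_sub_one_eq_one hα, one_mul]
  -- average over `H`
  have hQfix : ∀ x ∈ Q, mlRep (fun _ : Fin (r + 1) => Representation.linHom ρ ρ) x f = f := by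
    intro x hx
    rw [hf, rep_trForm]
    congr 1
    funext l
    have h1 : ∀ i : ℕ, ρ x * X ^ i * ρ x⁻¹ = X ^ i := by
      intro i
      induction i with
      | zero => rw [pow_zero, mul_one, ← map_mul, mul_inv_cancel, map_one]
      | succ i ih =>
        have e : ρ x * X ^ (i + 1) * ρ x⁻¹ = (ρ x * X ^ i * ρ x⁻¹) * (ρ x * X * ρ x⁻¹) := by
          have e1 : ρ x⁻¹ * ρ x = 1 := by rw [← map_mul, inv_mul_cancel, map_one]
          calc ρ x * X ^ (i + 1) * ρ x⁻¹ = ρ x * X ^ i * 1 * X * ρ x⁻¹ := by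
                rw [pow_succ, mul_one]; simp only [mul_assoc]
            _ = ρ x * X ^ i * (ρ x⁻¹ * ρ x) * X * ρ x⁻¹ := by rw [e1]
            _ = (ρ x * X ^ i * ρ x⁻¹) * (ρ x * X * ρ x⁻¹) := by simp only [mul_assoc]
        rw [e, ih, hXQ x hx, ← pow_succ]
    exact h1 (j l)
  have hHfix : ∀ h ∈ H, mlRep (fun _ : Fin (r + 1) => Representation.linHom ρ ρ) h f - f ∈
      mlFil (M := fun _ : Fin (r + 1) => Module.End (ZMod p) U)
        (fun _ => endFil F d) (fun _ => 2 * d) ((r + 1) * d + q + 1) := by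
    intro h hh
    obtain ⟨α, hα, hY1, hY2⟩ := hXH h hh
    rw [hf, rep_trForm]
    have h1 : ∀ i : ℕ, ρ h * X ^ i * ρ h⁻¹ = (ρ h * X * ρ h⁻¹) ^ i := by
      intro i
      have e1 : ρ h⁻¹ * ρ h = 1 := by rw [← map_mul, inv_mul_cancel, map_one]
      induction i with
      | zero => rw [pow_zero, mul_one, ← map_mul, mul_inv_cancel, map_one, pow_zero]
      | succ i ih =>
        rw [pow_succ (ρ h * X * ρ h⁻¹), ← ih]
        calc ρ h * X ^ (i + 1) * ρ h⁻¹ = ρ h * X ^ i * 1 * X * ρ h⁻¹ := by
              rw [pow_succ, mul_one]; simp only [mul_assoc]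
          _ = ρ h * X ^ i * (ρ h⁻¹ * ρ h) * X * ρ h⁻¹ := by rw [e1]
          _ = (ρ h * X ^ i * ρ h⁻¹) * (ρ h * X * ρ h⁻¹) := by simp only [mul_assoc]
    apply hlead _ α hα
    · intro l
      rw [h1]
      have := hY1.pow (j l)
      rwa [mul_one] at this
    · intro l
      rw [h1]
      exact Deg.pow_sub hX hY1 hY2 (j l)
  obtain ⟨f1, hf1, hf1f⟩ := exists_average
    (mlRep (fun _ : Fin (r + 1) => Representation.linHom ρ ρ)) hQH hidx
    (mlFil (M := fun _ : Fin (r + 1) => Module.End (ZMod p) U)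
        (fun _ => endFil F d) (fun _ => 2 * d) ((r + 1) * d + q + 1)) f hQfix hHfix
  obtain ⟨f', hf', hf'f1⟩ := ml_exists (fun _ : Fin (r + 1) => Representation.linHom ρ ρ)
    hfil hQH hfree (hQ.mono (fun x J hx => hjump x J hx)) (fun x hx => hjump x 0 (hinv x hx)) f1 hf1
  have hf'f : f' - f ∈ mlFil (M := fun _ : Fin (r + 1) => Module.End (ZMod p) U)
        (fun _ => endFil F d) (fun _ => 2 * d) ((r + 1) * d + q + 1) := by
    have h1 : f' - f1 ∈ mlFil (M := fun _ : Fin (r + 1) => Module.End (ZMod p) U)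
        (fun _ => endFil F d) (fun _ => 2 * d) ((r + 1) * d + q + 1) := by
      intro k A hA hk
      apply hf'f1 k A hA
      have h2 : q * 3 ≤ q * S := Nat.mul_le_mul_left q hS
      have h3 : (r + 1) * d = r * d + d := by ring
      rw [← hq]
      omega
    have h2 := Submodule.add_mem _ h1 hf1f
    rwa [sub_add_sub_cancel] at h2
  have hff : f ∈ mlFil (M := fun _ : Fin (r + 1) => Module.End (ZMod p) U)
        (fun _ => endFil F d) (fun _ => 2 * d) ((r + 1) * d + q) := by
    intro k A hA hk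
    rw [hf, trForm_apply]
    rw [hsumD] at hk
    by_cases hcase : ∃ l, d + 1 ≤ k l + j l
    · obtain ⟨l, hl⟩ := hcase
      exact Finset.prod_eq_zero (Finset.mem_univ l) (endFil_trace hF h0 hd (hA l) (hXj (j l)) hl)
    · exfalso
      push Not at hcase
      have h1 : ∑ l, k l ≤ ∑ l : Fin (r + 1), (d - j l) := by
        apply Finset.sum_le_sum
        intro l _
        have := hcase l; have := hj l; omega
      have h2 : (r + 1) * (2 * d) = (r + 1) * d + (r + 1) * d := by ring
      omega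
  have hf'fil : f' ∈ mlFil (M := fun _ : Fin (r + 1) => Module.End (ZMod p) U)
        (fun _ => endFil F d) (fun _ => 2 * d) ((r + 1) * d + q) := by
    have h1 : f' - f ∈ mlFil (M := fun _ : Fin (r + 1) => Module.End (ZMod p) U)
        (fun _ => endFil F d) (fun _ => 2 * d) ((r + 1) * d + q) := by
      intro k A hA hk
      exact hf'f k A hA (by omega)
    have h2 := Submodule.add_mem _ h1 hff
    rwa [sub_add_cancel] at h2
  -- the test tuple
  obtain ⟨u0, hu0⟩ : ∃ u0, (X ^ d) u0 ≠ 0 := by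
    by_contra hcon
    push Not at hcon
    exact hXd (LinearMap.ext hcon)
  have hXju : ∀ l, (X ^ j l) u0 ∉ F (j l + 1) := by
    intro l hmem
    apply hu0
    have h1 := hXj (d - j l) _ _ hmem
    rw [← Module.End.mul_apply, ← pow_add, Nat.sub_add_cancel (hj l),
      show j l + 1 + (d - j l) = d + 1 by have := hj l; omega, hd, Submodule.mem_bot] at h1
    exact h1
  have hφ : ∀ l, ∃ φ : Dual (ZMod p) U, φ ((X ^ j l) u0) ≠ 0 ∧ ∀ w ∈ F (j l + 1), φ w = 0 := by
    intro l
    obtain ⟨φ, h1, h2⟩ := Submodule.exists_dual_map_eq_bot_of_notMem (hXju l) inferInstance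
    refine ⟨φ, h1, fun w hw => ?_⟩
    have h3 : φ w ∈ (F (j l + 1)).map φ := Submodule.mem_map_of_mem hw
    rwa [h2, Submodule.mem_bot] at h3
  choose φ hφ1 hφ2 using hφ
  let A : Fin (r + 1) → Module.End (ZMod p) U := fun l => (φ l).smulRight u0
  have hA : ∀ l, A l ∈ endFil F d (d - j l) := by
    intro l i u hu
    show φ l u • u0 ∈ _
    rcases Nat.lt_or_ge (j l) i with hi | hi
    · rw [hφ2 l u (hF hi hu), zero_smul]
      exact (F _).zero_mem
    · rw [show i + (d - j l) - d = 0 by have := hj l; omega, h0]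
      trivial
  have hfA : f A ≠ 0 := by
    rw [hf, trForm_apply, Finset.prod_ne_zero_iff]
    intro l _
    have e : A l * X ^ j l = ((φ l) ∘ₗ (X ^ j l)).smulRight u0 := rfl
    rw [e, LinearMap.trace_smulRight]
    exact hφ1 l
  have hf'A : f' A ≠ 0 := by
    have h1 := hf'f (fun l => d - j l) A hA (by
      rw [hsumD]
      have h2 : (r + 1) * (2 * d) = (r + 1) * d + (r + 1) * d := by ring
      omega)
    rw [MultilinearMap.sub_apply, sub_eq_zero] at h1
    rw [h1]
    exact hfA
  apply hf'A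
  -- vanishing
  have hker : ∀ u : U, f' (Function.update A 0 ((φ 0).smulRight u)) = 0 := by
    let L : U →ₗ[ZMod p] ZMod p := (f'.toLinearMap A 0) ∘ₗ (LinearMap.smulRightₗ (φ 0))
    have hL : ∀ u, L u = f' (Function.update A 0 ((φ 0).smulRight u)) := fun _ => rfl
    have hker' : Submodule.span (ZMod p) (Set.range fun g => ρ g b) ≤ LinearMap.ker L := by
      rw [Submodule.span_le]
      rintro _ ⟨g, rfl⟩
      show L (ρ g b) = 0
      rw [hL]
      have h1 : f' (Function.update A 0 ((φ 0).smulRight (ρ g b))) =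
          mlRep (fun _ : Fin (r + 1) => Representation.linHom ρ ρ) g f'
            (Function.update A 0 ((φ 0).smulRight (ρ g b))) := by rw [hf' g]
      rw [h1, mlRep_apply]
      apply hf'fil (Function.update (fun _ => 0) 0 d)
      · intro l
        by_cases hl : l = 0
        · subst hl
          rw [Function.update_self, Function.update_self, Representation.linHom_apply]
          intro i u hu
          rw [Nat.add_sub_cancel, LinearMap.comp_apply, LinearMap.comp_apply,
            LinearMap.smulRight_apply, map_smul, Representation.inv_self_apply]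
          rcases Nat.lt_or_ge d i with hi | hi
          · have h3 : u ∈ F (d + 1) := hF hi hu
            rw [hd, Submodule.mem_bot] at h3
            rw [h3, map_zero, map_zero, zero_smul]
            exact (F _).zero_mem
          · exact (F _).smul_mem _ (hF hi hb)
        · rw [Function.update_of_ne hl]
          exact (hfil.top l).ge Submodule.mem_top
      · rw [hsumD]
        have h3 : ∑ l, (Function.update (fun _ => 0) 0 d : Fin (r + 1) → ℕ) l = d := by
          rw [Finset.sum_update_of_mem (Finset.mem_univ _)]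
          simp
        rw [h3]
        have h4 : (r + 1) * (2 * d) = (r + 1) * d + (r + 1) * d := by ring
        have h5 : (r + 1) * d = r * d + d := by ring
        omega
    intro u
    rw [← hL]
    have : u ∈ Submodule.span (ZMod p) (Set.range fun g => ρ g b) := by rw [hspan]; trivial
    exact hker' this
  have h1 := hker u0
  have h2 : Function.update A 0 ((φ 0).smulRight u0) = A := Function.update_eq_self 0 A
  rwa [h2] at h1

end Leading

end Cfsg.Agent.H786
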