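import Cfsg.Agent.H786.PureV
import Cfsg.Agent.H786.Leading

/-!
# The core lemma, `p`-closed case with `W 2 ≤ E` (helper786)
-/

set_option autoImplicit false
set_option linter.unusedSectionVars false
set_option linter.deprecated false

namespace Cfsg.Agent.H786

open Subgroup Cfsg.Agent.H467.MaxClass Cfsg.Agent.H785 Module
open scoped commutatorElement

universe u v

namespace Cfg

variable {P : Type u} [Group P] [Finite P] {p n : ℕ} [hp : Fact p.Prime] {W : ℕ → Subgroup P}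
  [hW1 : (W 1).Normal] {A : Subgroup (MulAut (W 1))} {E V : Subgroup P} {Γ : Type v} [Group Γ]
  [Finite Γ] {ρ : Γ →* MulAut V} {H : Subgroup Γ} {τ : (normalizer (E : Set P)) →* Γ}

theorem Ksub_eq_all (c : Cfg p n W A E V ρ H τ) {i : ℕ} (h1 : 1 ≤ i) (h2 : i + 2 ≤ n) :
    c.mc.Ksub i = W 1 := by
  rcases Nat.lt_or_ge (i + 2) n with h | h
  · exact c.mc.Ksub_eq c.three_le h1 (by omega)
  · have : i = n - 2 := by omega
    rw [this]
    exact c.Ksub_last

/-- elements outside `W 1` raise the index by exactly one -/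
theorem comm_notMem (c : Cfg p n W A E V ρ H τ) {x : P} (hx : x ∉ W 1) {i : ℕ} (h1 : 1 ≤ i)
    (h2 : i + 2 ≤ n) {w : P} (hw : w ∈ W i) (hw' : w ∉ W (i + 1)) : ⁅x, w⁆ ∉ W (i + 2) := by
  intro h
  apply hx
  rw [← c.Ksub_eq_all h1 h2]
  have h3 : ⁅w, x⁆ ∈ W (i + 2) := by
    rw [← commutatorElement_inv]
    exact inv_mem h
  exact (c.mc.mem_K_iff (by omega) hw hw' x).mpr h3

theorem E_eq_of_W2_le (c : Cfg p n W A E V ρ H τ) (h : W 2 ≤ E) : E = W 2 := by
  have h4 := c.mc.four_le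
  have h1 := Subgroup.relIndex_mul_relIndex (W 2) E (W 1) h c.E_le
  rw [c.mc.relIndex 1 (by omega)] at h1
  have h2 : E.relIndex (W 1) ≠ 1 := by
    rw [Ne, Subgroup.relIndex_eq_one]
    intro h3
    exact c.E_ne (le_antisymm c.E_le h3)
  have h3 : E.relIndex (W 1) ∣ p := ⟨_, by rw [mul_comm]; exact h1.symm⟩
  have h5 : E.relIndex (W 1) = p := ((Nat.dvd_prime hp.out).mp h3).resolve_left h2
  rw [h5] at h1
  have h6 : (W 2).relIndex E = 1 := by
    have := hp.out.pos
    exact Nat.eq_of_mul_eq_mul_right this (by rw [h1, one_mul])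
  rw [Subgroup.relIndex_eq_one] at h6
  exact le_antisymm h6 h

instance instFiniteVM (c : Cfg p n W A E V ρ H τ) : Finite (VM c) := inferInstanceAs (Finite V)

/-- the span of the orbit of `b` -/
noncomputable def orb (c : Cfg p n W A E V ρ H τ) (b : VM c) : Submodule (ZMod p) (VM c) :=
  Submodule.span (ZMod p) (Set.range fun g => c.rep g b)

theorem orb_inv (c : Cfg p n W A E V ρ H τ) (b : VM c) (g : Γ) :
    ∀ u ∈ c.orb b, c.rep g u ∈ c.orb b := by
  have h : c.orb b ≤ (c.orb b).comap (c.rep g) := by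
    rw [orb, Submodule.span_le]
    rintro _ ⟨g', rfl⟩
    rw [SetLike.mem_coe, Submodule.mem_comap, ← Module.End.mul_apply, ← map_mul]
    exact Submodule.subset_span ⟨g * g', rfl⟩
  exact h

/-- the representation on the span of an orbit -/
noncomputable def orbRep (c : Cfg p n W A E V ρ H τ) (b : VM c) :
    Representation (ZMod p) Γ (c.orb b) where
  toFun g := (c.rep g).restrict (c.orb_inv b g)
  map_one' := by
    apply LinearMap.ext
    intro u
    apply Subtype.ext
    show c.rep 1 (u : VM c) = u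
    rw [map_one, Module.End.one_apply]
  map_mul' g g' := by
    apply LinearMap.ext
    intro u
    apply Subtype.ext
    show c.rep (g * g') (u : VM c) = c.rep g (c.rep g' u)
    rw [map_mul, Module.End.mul_apply]

theorem orbRep_coe (c : Cfg p n W A E V ρ H τ) (b : VM c) (g : Γ) (u : c.orb b) :
    ((c.orbRep b g u : c.orb b) : VM c) = c.rep g (u : VM c) := rfl

/-- `t = 2`. -/
theorem caseA3 (c : Cfg p n W A E V ρ H τ) (hpc : PClosed A) (hWE : W 2 ≤ E) {a S : ℕ}
    (ha1 : 1 ≤ a) (hVa : V ≤ W a) (han : a < n) (haq : n - 1 - a ≤ p - 1) (hS : 3 ≤ S)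
    (hQ : NChain p (c.Jp a) τ.range S) : GInv ρ (W (n - 1)) := by
  have h4 := c.mc.four_le
  have h5 := c.five
  have hEW : E = W 2 := c.E_eq_of_W2_le hWE
  have hTop : ∀ s : P, s ∈ normalizer (E : Set P) := by
    intro s
    have hn : (E : Subgroup P).Normal := by rw [hEW]; exact c.mc.normal 2
    rw [Subgroup.normalizer_eq_top]
    trivial
  obtain ⟨φ, hφ⟩ := exists_coord c.mc
  obtain ⟨w0, hw0, hw01⟩ := hφ.exists_eq_one c.mc (i := n - 1) (by omega)
  have hw0V : w0 ∈ V := c.W_sub_one_le_V hw0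
  have hw0ne : w0 ≠ 1 := by
    intro h
    have hinst : Fact (1 < p) := ⟨hp.out.one_lt⟩
    rw [h, hφ.one (by omega)] at hw01
    exact zero_ne_one hw01
  set b : VM c := c.ofV ⟨w0, hw0V⟩ with hb
  -- the subgroup of `P` given by the span
  let UP : Subgroup P :=
    { carrier := {x | ∃ h : x ∈ V, c.ofV ⟨x, h⟩ ∈ c.orb b}
      one_mem' := ⟨one_mem _, (c.orb b).zero_mem⟩
      mul_mem' := by
        rintro x y ⟨hx, hx'⟩ ⟨hy, hy'⟩
        exact ⟨mul_mem hx hy, (c.orb b).add_mem hx' hy'⟩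
      inv_mem' := by
        rintro x ⟨hx, hx'⟩
        exact ⟨inv_mem hx, (c.orb b).neg_mem hx'⟩ }
  have hUP : ∀ u : VM c, u ∈ c.orb b ↔ ((c.toV u : V) : P) ∈ UP := by
    intro u
    exact ⟨fun h => ⟨SetLike.coe_mem _, h⟩, fun ⟨_, h⟩ => h⟩
  have hUPV : UP ≤ V := fun x hx => hx.1
  have hUPn : UP.Normal := by
    refine ⟨fun x hx s => ?_⟩
    have h1 := c.orb_inv b (τ ⟨s, hTop s⟩) _ hx.2
    rw [hUP] at h1
    have h2 : ((c.toV (c.rep (τ ⟨s, hTop s⟩) (c.ofV ⟨x, hx.1⟩)) : V) : P) = s * x * s⁻¹ :=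
      c.ρτ ⟨s, hTop s⟩ ⟨x, hx.1⟩
    rwa [h2] at h1
  obtain ⟨v, hav, hvn, hUv⟩ := c.mc.exists_eq_W hUPn ha1 (hUPV.trans hVa) (by omega)
  have hbU : w0 ∈ UP := by
    refine ⟨hw0V, Submodule.subset_span ⟨1, ?_⟩⟩
    simp only
    rw [map_one, Module.End.one_apply]
  have hvn' : v < n := by
    rcases Nat.lt_or_ge v n with h | h
    · exact h
    · exfalso
      rw [hUv, c.mc.bot_of_le h, mem_bot] at hbU
      exact hw0ne hbU
  rcases Nat.lt_or_ge v (n - 1) with hv | hv
  swap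
  · -- the orbit spans `W (n - 1)`
    have hv' : v = n - 1 := by omega
    intro g e he
    rw [← hv', ← hUv] at he ⊢
    have h1 : c.ofV e ∈ c.orb b := he.2
    have h2 := c.orb_inv b g _ h1
    rw [hUP] at h2
    exact h2
  exfalso
  -- the element `x`
  obtain ⟨x, hx, hx1⟩ := hφ.exists_eq_one c.mc (i := 0) (by omega)
  have hxW1 : x ∉ W 1 := by
    intro h
    have hinst : Fact (1 < p) := ⟨hp.out.one_lt⟩
    rw [(hφ.zero 0 (by omega) x hx).mpr h] at hx1
    exact zero_ne_one hx1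
  set d := n - 1 - v with hd
  let F : ℕ → Submodule (ZMod p) (c.orb b) := fun k => (c.fil v k).comap (c.orb b).subtype
  have hF : ∀ (k : ℕ) (u : c.orb b), u ∈ F k ↔ ((c.toV (u : VM c) : V) : P) ∈ W (v + k) :=
    fun k u => Iff.rfl
  have hmemW : ∀ u : c.orb b, ((c.toV (u : VM c) : V) : P) ∈ W v := by
    intro u
    rw [← hUv, ← hUP]
    exact u.2
  have hWv : ∀ y ∈ W v, ∃ u : c.orb b, ((c.toV (u : VM c) : V) : P) = y := by
    intro y hy
    rw [← hUv] at hy
    exact ⟨⟨c.ofV ⟨y, hy.1⟩, hy.2⟩, rfl⟩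
  -- the coordinates of `(ρ s - 1) u`
  have hsub : ∀ (s : normalizer (E : Set P)) (u : c.orb b),
      ((c.toV ((c.orbRep b (τ s) u - u : c.orb b) : VM c) : V) : P) =
        ⁅(s : P), ((c.toV (u : VM c) : V) : P)⁆ := by
    intro s u
    have : ((c.orbRep b (τ s) u - u : c.orb b) : VM c) = c.rep (τ s) (u : VM c) - u := rfl
    rw [this, toV_rep_τ]
  have hJ : ∀ (y : Γ) (J : ℕ), c.Jp a y J →
      ∀ k, ∀ u ∈ F k, c.orbRep b y u - u ∈ F (k + J) := by
    intro y J hy k u hu
    rw [hF] at hu ⊢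
    have h1 : (u : VM c) ∈ c.fil a (v - a + k) := by
      rw [mem_fil, show a + (v - a + k) = v + k by omega]
      exact hu
    have h2 := hy _ _ h1
    rw [mem_fil, show a + (v - a + k + J) = v + (k + J) by omega] at h2
    exact h2
  set X : Module.End (ZMod p) (c.orb b) := c.orbRep b (τ ⟨x, hTop x⟩) - 1 with hX
  have hXv : ∀ u : c.orb b, ((c.toV ((X u : c.orb b) : VM c) : V) : P) =
      ⁅x, ((c.toV (u : VM c) : V) : P)⁆ := fun u => hsub ⟨x, hTop x⟩ u
  have hX1 : Deg F 1 X := by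
    intro i u hu
    rw [hF] at hu ⊢
    rw [hXv]
    exact c.mc.comm_mem' hu
  -- `X ^ d ≠ 0`
  have hXd : X ^ d ≠ 0 := by
    obtain ⟨y, hy, hy'⟩ := c.mc.ne_succ hvn'
    obtain ⟨u, hu⟩ := hWv y hy
    have key : ∀ j, v + j < n → ((c.toV (((X ^ j) u : c.orb b) : VM c) : V) : P) ∈ W (v + j) ∧
        ((c.toV (((X ^ j) u : c.orb b) : VM c) : V) : P) ∉ W (v + j + 1) := by
      intro j
      induction j with
      | zero =>
        intro _
        rw [pow_zero, Module.End.one_apply, hu]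
        exact ⟨hy, hy'⟩
      | succ j ih =>
        intro hj
        obtain ⟨h1, h2⟩ := ih (by omega)
        rw [pow_succ', Module.End.mul_apply, hXv]
        exact ⟨c.mc.comm_mem' h1, c.comm_notMem hxW1 (i := v + j) (by omega) (by omega) h1 h2⟩
    intro h0
    have h1 := (key d (by omega)).2
    apply h1
    rw [h0]
    exact one_mem _
  -- `Q` commutes with `X`
  have hXQ : ∀ y ∈ τ.range, c.orbRep b y * X * c.orbRep b y⁻¹ = X := by
    rintro _ ⟨s, rfl⟩
    have h1 : τ s * τ ⟨x, hTop x⟩ * (τ s)⁻¹ = τ ⟨x, hTop x⟩ := by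
      have h2 : τ (s * ⟨x, hTop x⟩ * s⁻¹ * (⟨x, hTop x⟩ : normalizer (E : Set P))⁻¹) = 1 := by
        rw [c.ker]
        have h3 : ⁅(s : P), x⁆ ∈ W 2 := by
          rw [← c.mc.comm_top]
          exact commutator_mem_commutator (mem_top _) (mem_top _)
        exact hWE h3
      rw [map_mul, map_mul, map_mul, map_inv, map_inv] at h2
      exact mul_inv_eq_one.mp h2
    have h2 : c.orbRep b (τ s) * c.orbRep b (τ ⟨x, hTop x⟩) * c.orbRep b (τ s)⁻¹ =
        c.orbRep b (τ s * τ ⟨x, hTop x⟩ * (τ s)⁻¹) := by rw [map_mul, map_mul]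
    have h3 : c.orbRep b (τ s) * c.orbRep b (τ s)⁻¹ = 1 := by
      rw [← map_mul, mul_inv_cancel, map_one]
    rw [hX, mul_sub, sub_mul, mul_one, h2, h3, h1]
  -- `H` normalizes `X` up to higher terms
  have hAW := hpc.aInv c.mc
  have hXH : ∀ h ∈ H, ∃ α : ZMod p, α ≠ 0 ∧ Deg F 1 (c.orbRep b h * X * c.orbRep b h⁻¹) ∧
      Deg F 2 (c.orbRep b h * X * c.orbRep b h⁻¹ - α • X) := by
    intro h hh
    obtain ⟨α, hα, -, hα2⟩ := c.ext_ap hh
    obtain ⟨x', hx'⟩ := hpc.exists_conj hα x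
    have hZ : ∀ u : c.orb b, ((c.toV (((c.orbRep b h * X * c.orbRep b h⁻¹) u : c.orb b) : VM c) : V) : P)
        = ⁅x', ((c.toV (u : VM c) : V) : P)⁆ := by
      intro u
      -- put `u = h u'`
      obtain ⟨u', rfl⟩ : ∃ u', u = c.orbRep b h u' := ⟨c.orbRep b h⁻¹ u, by
        rw [Representation.self_inv_apply]⟩
      rw [Module.End.mul_apply, Module.End.mul_apply, Representation.inv_self_apply]
      rw [hX, LinearMap.sub_apply, Module.End.one_apply, map_sub]
      have e1 : ((c.orbRep b h (c.orbRep b (τ ⟨x, hTop x⟩) u') - c.orbRep b h u' : c.orb b) : VM c) =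
          c.rep h (c.rep (τ ⟨x, hTop x⟩) (u' : VM c)) - c.rep h (u' : VM c) := rfl
      rw [e1, toV_sub, toV_rep, toV_rep, Subgroup.coe_mul, Subgroup.coe_inv, ← hα2]
      have e2 : ((c.toV ((c.orbRep b h u' : c.orb b) : VM c) : V) : P) =
          (ρ h (c.toV (u' : VM c)) : V) := rfl
      rw [e2, toV_rep, c.ρτ, ← hα2]
      have e3 := hx' _ (c.V_le (SetLike.coe_mem (c.toV (u' : VM c))))
      have e4 : ((⟨x, hTop x⟩ : normalizer (E : Set P)) : P) = x := rfl
      rw [e4, e3, commutatorElement_def]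
    have hx'0 : x' ∈ W 0 := by rw [c.mc.zero]; trivial
    have hx'W1 : x' ∉ W 1 := by
      intro hmem
      obtain ⟨w, hw, hw'⟩ := c.mc.ne_succ (i := n - 2) (by omega)
      have hwW1 : w ∈ W 1 := c.mc.antitone (by omega) hw
      have h1 := hx' w hwW1
      have h2 : ap α w ∈ W (n - 2) := aInv_iff.mp (hAW (n - 2) (by omega)) α hα w hwW1 hw
      have h3 : Commute x' (ap α w) := by
        have h6 := c.deg (n - 2) 1 (by omega) le_rfl (commutator_mem_commutator h2 hmem)
        rw [c.mc.bot_of_le (i := n - 2 + 1 + 1) (by omega), mem_bot] at h6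
        exact (commutatorElement_eq_one_iff_commute.mp h6).symm
      rw [h3.eq, mul_inv_cancel_right] at h1
      have h6 : x * w * x⁻¹ = w := by
        have h7 : x * w * x⁻¹ ∈ W 1 := hW1.conj_mem w hwW1 x
        rw [ap_of_mem α h7, ap_of_mem α hwW1] at h1
        have h8 := α.injective (Subtype.ext h1)
        exact congrArg Subtype.val h8
      have h7 := c.comm_notMem hxW1 (i := n - 2) (by omega) (by omega) hw hw'
      apply h7
      rw [commutatorElement_def, h6, mul_inv_cancel]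
      exact one_mem _
    have hφx' : φ 0 x' ≠ 0 := fun h0 => hx'W1 ((hφ.zero 0 (by omega) x' hx'0).mp h0)
    refine ⟨φ 0 x', hφx', ?_, ?_⟩
    · intro i u hu
      rw [hF] at hu ⊢
      rw [hZ]
      exact c.mc.comm_mem' hu
    · intro i u hu
      rw [hF] at hu ⊢
      have e1 : (((c.orbRep b h * X * c.orbRep b h⁻¹ - φ 0 x' • X) u : c.orb b) : VM c) =
          (((c.orbRep b h * X * c.orbRep b h⁻¹) u : c.orb b) : VM c) -
            φ 0 x' • ((X u : c.orb b) : VM c) := rfl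
      rw [e1, toV_sub, Subgroup.coe_mul, hZ, Subgroup.coe_inv, toV_smul, Subgroup.coe_pow, hXv]
      set y := ((c.toV (u : VM c) : V) : P) with hy
      have hm1 : ⁅x', y⁆ ∈ W (v + i + 1) := c.mc.comm_mem' hu
      have hm2 : ⁅x, y⁆ ∈ W (v + i + 1) := c.mc.comm_mem' hu
      rcases Nat.lt_or_ge (v + i + 1) n with hlt | hge
      · have h6 : ⁅x', y⁆ * (⁅x, y⁆ ^ (φ 0 x').val)⁻¹ ∈ W (v + i + 1) :=
          mul_mem hm1 (inv_mem (pow_mem hm2 _))
        rw [show v + (i + 2) = v + i + 1 + 1 by ring, ← hφ.zero _ hlt _ h6,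
          hφ.mul _ hlt _ hm1 _ (inv_mem (pow_mem hm2 _)), hφ.inv hlt (pow_mem hm2 _),
          hφ.pow hlt hm2, ZMod.natCast_val, ZMod.cast_id', id_eq]
        obtain ⟨β, hβ⟩ := hφ.pairing c.mc (i := v + i) (j := 0) (m := v + i + 1) (by omega)
          (by omega) hlt (by rw [c.mc.zero]; exact c.mc.comm_le _)
          (by rw [c.mc.zero]; exact c.mc.comm_le _) (c.deg (v + i) 1 (by omega) le_rfl)
        have h7 : ∀ s ∈ W 0, φ (v + i + 1) ⁅s, y⁆ = - (β * φ (v + i) y * φ 0 s) := by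
          intro s hs
          rw [← hβ y hu s hs, ← commutatorElement_inv s y, hφ.inv hlt, neg_neg]
          exact c.mc.comm_mem' hu
        rw [h7 x' hx'0, h7 x hx, hx1]
        ring
      · rw [c.mc.bot_of_le (i := v + (i + 2)) (by omega), mem_bot]
        rw [c.mc.bot_of_le (i := v + i + 1) (by omega), mem_bot] at hm1 hm2
        rw [hm1, hm2, one_pow, inv_one, mul_one]
  -- apply the lemma
  refine leading (c.orbRep b) (F := F) (d := d) ?_ ?_ ?_ c.se.le c.se.emb
    (hQ.mono (fun y J hy => hJ y J hy)) (fun y hy => hJ y 0 (c.Jp_zero y hy)) hS (by omega)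
    (by omega) X hX1 hXd hXQ hXH ?_ (b := ⟨b, Submodule.subset_span ⟨1, ?_⟩⟩) ?_ ?_
  · intro k k' hk u hu
    rw [hF] at hu ⊢
    exact c.mc.antitone (by omega) hu
  · rw [eq_top_iff]
    intro u _
    rw [hF, add_zero]
    exact hmemW u
  · rw [eq_bot_iff]
    intro u hu
    rw [hF, c.mc.bot_of_le (by omega), mem_bot] at hu
    rw [Submodule.mem_bot]
    exact Subtype.ext (c.toV_injective (Subtype.ext hu))
  · intro hd
    exact c.sylowΓ (hd.trans (Subgroup.relIndex_dvd_index_of_le c.se.le))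
  · simp only
    rw [map_one, Module.End.one_apply]
  · rw [hF]
    show w0 ∈ W (v + d)
    rw [show v + d = n - 1 by omega]
    exact hw0
  · have h1 := Submodule.span_span_coe_preimage (R := ZMod p) (s := Set.range fun g => c.rep g b)
    have h2 : (Set.range fun g => c.orbRep b g ⟨b, Submodule.subset_span ⟨1, by
        simp only
        rw [map_one, Module.End.one_apply]⟩⟩) =
        ((↑) : Submodule.span (ZMod p) (Set.range fun g => c.rep g b) → VM c) ⁻¹'
          (Set.range fun g => c.rep g b) := by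
      ext u
      constructor
      · rintro ⟨g, rfl⟩
        exact ⟨g, rfl⟩
      · rintro ⟨g, hg⟩
        exact ⟨g, Subtype.ext hg⟩
    rw [← h2] at h1
    exact h1

end Cfg

end Cfsg.Agent.H786
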