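import Cfsg.Agent.H786.SE

/-!
# First consequences of the core configuration (helper786)
-/

set_option autoImplicit false

namespace Cfsg.Agent.H786

open Subgroup Cfsg.Agent.H467.MaxClass
open scoped commutatorElement

universe u v

namespace Cfg

variable {P : Type u} [Group P] [Finite P] {p n : ℕ} [hp : Fact p.Prime] {W : ℕ → Subgroup P}
  [hW1 : (W 1).Normal] {A : Subgroup (MulAut (W 1))} {E V : Subgroup P} {Γ : Type v} [Group Γ]
  [Finite Γ] {ρ : Γ →* MulAut V} {H : Subgroup Γ} {τ : (normalizer (E : Set P)) →* Γ}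

theorem pgroup (c : Cfg p n W A E V ρ H τ) : IsPGroup p P := by
  have := c.mc.card_group
  exact IsPGroup.of_card this

theorem V_le_E (c : Cfg p n W A E V ρ H τ) : V ≤ E := fun v hv => ((c.mem_V v).mp hv).1

theorem V_le (c : Cfg p n W A E V ρ H τ) : V ≤ W 1 := c.V_le_E.trans c.E_le

theorem V_pow (c : Cfg p n W A E V ρ H τ) {v : P} (hv : v ∈ V) : v ^ p = 1 :=
  ((c.mem_V v).mp hv).2.1

theorem V_comm (c : Cfg p n W A E V ρ H τ) {v e : P} (hv : v ∈ V) (he : e ∈ E) : Commute e v :=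
  ((c.mem_V v).mp hv).2.2 e he

theorem se (c : Cfg p n W A E V ρ H τ) : SE p H τ.range where
  le := by
    rintro _ ⟨s, rfl⟩
    exact c.τ_mem s
  pgroup := (c.pgroup.to_subgroup _).of_surjective τ.rangeRestrict τ.rangeRestrict_surjective
  index := c.sylowΓ
  emb := by
    rintro g hg _ ⟨s, rfl⟩ hs
    exact c.emb g hg s hs
  ne := c.H_ne

/-- the elements of `Γ` acting trivially on the part of `U` in `V` -/
def kerOn (ρ : Γ →* MulAut V) (U : Subgroup P) : Subgroup Γ where
  carrier := {g | ∀ u : V, (u : P) ∈ U → ρ g u = u}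
  one_mem' := fun u _ => by simp
  mul_mem' := by
    intro g g' hg hg' u hu
    rw [map_mul, MulAut.mul_apply, hg' u hu, hg u hu]
  inv_mem' := by
    intro g hg u hu
    rw [map_inv]
    have := hg u hu
    conv_lhs => rw [← this]
    simp

omit [Finite P] [Finite Γ] in
theorem mem_kerOn {U : Subgroup P} {g : Γ} : g ∈ kerOn ρ U ↔ ∀ u : V, (u : P) ∈ U → ρ g u = u :=
  Iff.rfl

omit [Finite P] [Finite Γ] in
theorem kerOn_normal {U : Subgroup P} (hU : GInv ρ U) : (kerOn ρ U).Normal := by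
  refine ⟨fun k hk g u hu => ?_⟩
  have h1 := hU g⁻¹ u hu
  rw [map_mul, map_mul, MulAut.mul_apply, MulAut.mul_apply, hk _ h1]
  simp

/-- **Lemma F.** If some element of `N_P(E) - E` centralizes a `Γ`-invariant subgroup `U` of `V`,
then every `A`-invariant subgroup of `U` is `Γ`-invariant. -/
theorem lemmaF (c : Cfg p n W A E V ρ H τ) {U B : Subgroup P} (hU : GInv ρ U)
    (hBU : B ≤ U) (hB : AInv A B) {s : normalizer (E : Set P)} (hsE : (s : P) ∉ E)
    (hcent : ∀ u ∈ U, Commute (s : P) u) : GInv ρ B := by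
  have hN := kerOn_normal hU
  have hs : τ s ∈ kerOn ρ U := by
    intro u hu
    apply Subtype.ext
    rw [c.ρτ, (hcent u hu).eq, mul_inv_cancel_right]
  have hs1 : τ s ≠ 1 := fun h => hsE ((c.ker s).mp h)
  intro g e he
  obtain ⟨y, hy, k, hk, rfl⟩ := c.se.frattini hs ⟨s, rfl⟩ hs1 g
  obtain ⟨a, haA, -, ha⟩ := c.ext k hk
  have heM : (e : P) ∈ W 1 := c.V_le e.2
  have h1 := ha e ⟨e, heM⟩ rfl
  have h2 : ((ρ k e : V) : P) ∈ B := by
    rw [← h1]
    exact hB a haA _ he
  have h3 := hy (ρ k e) (hBU h2)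
  rw [map_mul, MulAut.mul_apply, h3]
  exact h2

end Cfg

end Cfsg.Agent.H786
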