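import Cfsg.Agent.H786.CfgBasic

/-!
# Coordinates on the layers of a p-group of maximal class (helper786)
-/

set_option autoImplicit false

namespace Cfsg.Agent.H786

open Subgroup Cfsg.Agent.H467.MaxClass
open scoped commutatorElement

universe u v

variable {P : Type u} [Group P] {p n : ℕ} {W : ℕ → Subgroup P}

/-- `φ i` is a coordinate on `W i / W (i + 1)`. -/
structure Coord (p n : ℕ) (W : ℕ → Subgroup P) (φ : ℕ → P → ZMod p) : Prop where
  mul : ∀ i, i < n → ∀ w ∈ W i, ∀ w' ∈ W i, φ i (w * w') = φ i w + φ i w'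
  zero : ∀ i, i < n → ∀ w ∈ W i, (φ i w = 0 ↔ w ∈ W (i + 1))

theorem exists_coord (h : MC P p n W) [hp : Fact p.Prime] :
    ∃ φ : ℕ → P → ZMod p, Coord p n W φ := by
  classical
  have key : ∀ i, ∃ f : P → ZMod p, i < n → (∀ w ∈ W i, ∀ w' ∈ W i, f (w * w') = f w + f w') ∧
      ∀ w ∈ W i, (f w = 0 ↔ w ∈ W (i + 1)) := by
    intro i
    by_cases hi : i < n
    · have hn := h.normal (i + 1)
      have h1 : ((W (i + 1)).subgroupOf (W i)).index = p := h.relIndex i hi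
      have hcard : Nat.card (W i ⧸ (W (i + 1)).subgroupOf (W i)) = p := h1
      let e : (W i ⧸ (W (i + 1)).subgroupOf (W i)) ≃* Multiplicative (ZMod p) :=
        mulEquivOfPrimeCardEq (p := p) hcard (by simp)
      let g : W i →* Multiplicative (ZMod p) := e.toMonoidHom.comp (QuotientGroup.mk' _)
      have hg : ∀ x : W i, g x = 1 ↔ (x : P) ∈ W (i + 1) := by
        intro x
        show e (QuotientGroup.mk' _ x) = 1 ↔ _
        rw [MulEquiv.map_eq_one_iff, QuotientGroup.mk'_apply, QuotientGroup.eq_one_iff,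
          mem_subgroupOf]
      refine ⟨fun w => if hw : w ∈ W i then (g ⟨w, hw⟩).toAdd else 0, fun _ => ⟨?_, ?_⟩⟩
      · intro w hw w' hw'
        simp only [hw, hw', (W i).mul_mem hw hw', dite_true]
        have : g ⟨w * w', (W i).mul_mem hw hw'⟩ = g ⟨w, hw⟩ * g ⟨w', hw'⟩ := by
          rw [← map_mul]
          rfl
        rw [this, toAdd_mul]
      · intro w hw
        simp only [hw, dite_true]
        rw [← hg ⟨w, hw⟩, toAdd_eq_zero]
    · exact ⟨fun _ => 0, fun h => absurd h hi⟩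
  choose f hf using key
  exact ⟨f, fun i hi => (hf i hi).1, fun i hi => (hf i hi).2⟩

namespace Coord

variable {φ : ℕ → P → ZMod p}

theorem one (h : Coord p n W φ) {i : ℕ} (hi : i < n) : φ i 1 = 0 :=
  (h.zero i hi 1 (one_mem _)).mpr (one_mem _)

theorem inv (h : Coord p n W φ) {i : ℕ} (hi : i < n) {w : P} (hw : w ∈ W i) : φ i w⁻¹ = - φ i w := by
  have := h.mul i hi w hw w⁻¹ (inv_mem hw)
  rw [mul_inv_cancel, h.one hi] at this
  exact (neg_eq_of_add_eq_zero_right this.symm).symm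

theorem pow (h : Coord p n W φ) {i : ℕ} (hi : i < n) {w : P} (hw : w ∈ W i) (k : ℕ) :
    φ i (w ^ k) = k * φ i w := by
  induction k with
  | zero => simp [h.one hi]
  | succ k ih => rw [pow_succ, h.mul i hi _ (pow_mem hw k) w hw, ih]; push_cast; ring

theorem zpow (h : Coord p n W φ) {i : ℕ} (hi : i < n) {w : P} (hw : w ∈ W i) (k : ℤ) :
    φ i (w ^ k) = k * φ i w := by
  cases k with
  | ofNat k => rw [Int.ofNat_eq_natCast, zpow_natCast, h.pow hi hw]; simp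
  | negSucc k => rw [zpow_negSucc, h.inv hi (pow_mem hw _), h.pow hi hw]; push_cast; ring

theorem mul_right (h : Coord p n W φ) {i : ℕ} (hi : i < n) {w w' : P} (hw : w ∈ W i)
    (hw' : w' ∈ W (i + 1)) (hle : W (i + 1) ≤ W i) : φ i (w * w') = φ i w := by
  rw [h.mul i hi w hw w' (hle hw'), (h.zero i hi w' (hle hw')).mpr hw', add_zero]

theorem mul_left (h : Coord p n W φ) {i : ℕ} (hi : i < n) {w w' : P} (hw : w ∈ W i)
    (hw' : w' ∈ W (i + 1)) (hle : W (i + 1) ≤ W i) : φ i (w' * w) = φ i w := by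
  rw [h.mul i hi w' (hle hw') w hw, (h.zero i hi w' (hle hw')).mpr hw', zero_add]

/-- a generator with coordinate one -/
theorem exists_eq_one (h : Coord p n W φ) (mc : MC P p n W) [hp : Fact p.Prime] {i : ℕ}
    (hi : i < n) : ∃ w ∈ W i, φ i w = 1 := by
  obtain ⟨w, hw, hw'⟩ := mc.ne_succ hi
  have h1 : φ i w ≠ 0 := fun e => hw' ((h.zero i hi w hw).mp e)
  refine ⟨w ^ ((φ i w)⁻¹).val, pow_mem hw _, ?_⟩
  rw [h.pow hi hw, ZMod.natCast_val, ZMod.cast_id', id_eq, inv_mul_cancel₀ h1]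

/-- additive functions on a layer are multiples of the coordinate -/
theorem eq_smul (h : Coord p n W φ) (mc : MC P p n W) [hp : Fact p.Prime] {i : ℕ} (hi : i < n)
    (f : P → ZMod p) (hf : ∀ w ∈ W i, ∀ w' ∈ W i, f (w * w') = f w + f w')
    (hf0 : ∀ w ∈ W (i + 1), f w = 0) : ∃ c, ∀ w ∈ W i, f w = c * φ i w := by
  obtain ⟨w0, hw0, h1⟩ := h.exists_eq_one mc hi
  have hf1 : f 1 = 0 := hf0 1 (one_mem _)
  have hpow : ∀ w ∈ W i, ∀ k : ℕ, f (w ^ k) = k * f w := by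
    intro w hw k
    induction k with
    | zero => simp [hf1]
    | succ k ih => rw [pow_succ, hf _ (pow_mem hw k) w hw, ih]; push_cast; ring
  refine ⟨f w0, fun w hw => ?_⟩
  set k := (φ i w).val with hk
  have hkk : (k : ZMod p) = φ i w := by rw [hk, ZMod.natCast_val, ZMod.cast_id', id_eq]
  have h2 : (w0 ^ k)⁻¹ * w ∈ W (i + 1) := by
    rw [← h.zero i hi _ (mul_mem (inv_mem (pow_mem hw0 k)) hw),
      h.mul i hi _ (inv_mem (pow_mem hw0 k)) w hw, h.inv hi (pow_mem hw0 k), h.pow hi hw0, h1, hkk]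
    ring
  have h3 : w = w0 ^ k * ((w0 ^ k)⁻¹ * w) := by group
  have h4 : f w = f (w0 ^ k) + f ((w0 ^ k)⁻¹ * w) := by
    conv_lhs => rw [h3]
    exact hf _ (pow_mem hw0 k) _ (mc.le_succ i h2)
  rw [h4, hf0 _ h2, hpow w0 hw0, hkk]
  ring

/-- the commutator pairing of two layers -/
theorem pairing (h : Coord p n W φ) (mc : MC P p n W) [hp : Fact p.Prime] {i j m : ℕ} (hi : i < n)
    (hj : j < n) (hm : m < n) (h1 : ⁅W i, W j⁆ ≤ W m) (h2 : ⁅W (i + 1), W j⁆ ≤ W (m + 1))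
    (h3 : ⁅W i, W (j + 1)⁆ ≤ W (m + 1)) :
    ∃ β, ∀ w ∈ W i, ∀ y ∈ W j, φ m ⁅w, y⁆ = β * φ i w * φ j y := by
  have hc : ∀ w ∈ W i, ∀ y ∈ W j, ⁅w, y⁆ ∈ W m := fun w hw y hy =>
    h1 (commutator_mem_commutator hw hy)
  have hconj : ∀ g x : P, x ∈ W m → φ m (g * x * g⁻¹) = φ m x := by
    intro g x hx
    have e : g * x * g⁻¹ = ⁅g, x⁆ * x := by simp only [commutatorElement_def]; group
    rw [e, h.mul_left hm hx (mc.comm_mem' hx) (mc.le_succ m)]
  have hL : ∀ w ∈ W i, ∀ w' ∈ W i, ∀ y ∈ W j, φ m ⁅w * w', y⁆ = φ m ⁅w, y⁆ + φ m ⁅w', y⁆ := by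
    intro w hw w' hw' y hy
    have e : ⁅w * w', y⁆ = (w * ⁅w', y⁆ * w⁻¹) * ⁅w, y⁆ := by
      simp only [commutatorElement_def]; group
    rw [e, h.mul m hm _ (mc.conj_mem (hc w' hw' y hy) w) _ (hc w hw y hy),
      hconj w _ (hc w' hw' y hy), add_comm]
  have hR : ∀ w ∈ W i, ∀ y ∈ W j, ∀ y' ∈ W j, φ m ⁅w, y * y'⁆ = φ m ⁅w, y⁆ + φ m ⁅w, y'⁆ := by
    intro w hw y hy y' hy'
    have e : ⁅w, y * y'⁆ = ⁅w, y⁆ * (y * ⁅w, y'⁆ * y⁻¹) := by
      simp only [commutatorElement_def]; group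
    rw [e, h.mul m hm _ (hc w hw y hy) _ (mc.conj_mem (hc w hw y' hy') y),
      hconj y _ (hc w hw y' hy')]
  have hL0 : ∀ y ∈ W j, ∀ w ∈ W (i + 1), φ m ⁅w, y⁆ = 0 := fun y hy w hw =>
    (h.zero m hm _ (h1 (commutator_mem_commutator (mc.le_succ i hw) hy))).mpr
      (h2 (commutator_mem_commutator hw hy))
  have hR0 : ∀ w ∈ W i, ∀ y ∈ W (j + 1), φ m ⁅w, y⁆ = 0 := fun w hw y hy =>
    (h.zero m hm _ (h1 (commutator_mem_commutator hw (mc.le_succ j hy)))).mpr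
      (h3 (commutator_mem_commutator hw hy))
  obtain ⟨w0, hw0, hw01⟩ := h.exists_eq_one mc hi
  obtain ⟨β, hβ⟩ := h.eq_smul mc hj (fun y => φ m ⁅w0, y⁆) (hR w0 hw0) (hR0 w0 hw0)
  refine ⟨β, fun w hw y hy => ?_⟩
  obtain ⟨c, hcc⟩ := h.eq_smul mc hi (fun w => φ m ⁅w, y⁆) (fun w hw w' hw' => hL w hw w' hw' y hy)
    (hL0 y hy)
  have e1 := hcc w0 hw0
  have e2 := hcc w hw
  have e3 := hβ y hy
  rw [hw01, mul_one] at e1
  rw [e2, ← e1, e3]
  ring

end Coord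

end Cfsg.Agent.H786
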