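import Cfsg.Agent.H467.MaxClassPower2

/-!
# The core configuration for essential subgroups of p-groups of maximal class (helper786)
-/

set_option autoImplicit false

namespace Cfsg.Agent.H786

open Subgroup Cfsg.Agent.H467.MaxClass
open scoped commutatorElement

universe u v

/-- conjugation by the elements of `P` on a normal subgroup `M` -/
def conjGrp {P : Type u} [Group P] (M : Subgroup P) [M.Normal] : Subgroup (MulAut M) :=
  (MulAut.conjNormal (H := M)).range

/-- **The core configuration.** `P` is a `p`-group of maximal class with chain `W` and positive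
degree of commutativity, `A` a group of automorphisms of `W 1` with Sylow `p`-subgroup induced by
`P`, `E < W 1` a subgroup, `V` the elements of order dividing `p` in its centre; `Γ` acts on `V`,
`τ : N_P(E) → Γ` is compatible with conjugation with kernel `E`, and `H < Γ` is strongly embedded
with respect to the Sylow `p`-subgroup `τ N_P(E)`, every element of `H` being the restriction of an
element of `A`; `E` contains its centralizer. -/
structure Cfg {P : Type u} [Group P] (p n : ℕ) (W : ℕ → Subgroup P) [(W 1).Normal]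
    (A : Subgroup (MulAut (W 1))) (E V : Subgroup P) {Γ : Type v} [Group Γ] (ρ : Γ →* MulAut V)
    (H : Subgroup Γ) (τ : (normalizer (E : Set P)) →* Γ) : Prop where
  mc : MC P p n W
  deg : ∀ i j, 1 ≤ i → 1 ≤ j → ⁅W i, W j⁆ ≤ W (i + j + 1)
  five : 5 ≤ p
  conj_le : conjGrp (W 1) ≤ A
  sylow : ¬ p ∣ (conjGrp (W 1)).relIndex A
  E_le : E ≤ W 1
  E_ne : E ≠ W 1
  mem_V : ∀ v, v ∈ V ↔ v ∈ E ∧ v ^ p = 1 ∧ ∀ e ∈ E, Commute e v
  ρτ : ∀ (s : normalizer (E : Set P)) (v : V), ((ρ (τ s) v : V) : P) = s * v * (s : P)⁻¹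
  ker : ∀ s, τ s = 1 ↔ (s : P) ∈ E
  H_ne : H ≠ ⊤
  τ_mem : ∀ s, τ s ∈ H
  emb : ∀ g, g ∉ H → ∀ s, g⁻¹ * τ s * g ∈ H → τ s = 1
  sylowΓ : ¬ p ∣ τ.range.index
  ext : ∀ h ∈ H, ∃ a ∈ A, (∀ e : W 1, (e : P) ∈ E ↔ ((a e : W 1) : P) ∈ E) ∧
    ∀ (v : V) (e : W 1), (e : P) = v → ((a e : W 1) : P) = (ρ h v : V)
  cent : ∀ s : P, (∀ e ∈ E, Commute s e) → s ∈ E

/-- A subgroup of `P` inside `W 1` invariant under `A`. -/
def AInv {P : Type u} [Group P] {M : Subgroup P} (A : Subgroup (MulAut M)) (B : Subgroup P) : Prop :=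
  ∀ a ∈ A, ∀ e : M, (e : P) ∈ B → ((a e : M) : P) ∈ B

/-- A subgroup of `P` inside `V` invariant under `Γ`. -/
def GInv {P : Type u} [Group P] {V : Subgroup P} {Γ : Type v} [Group Γ] (ρ : Γ →* MulAut V)
    (B : Subgroup P) : Prop :=
  ∀ g : Γ, ∀ e : V, (e : P) ∈ B → ((ρ g e : V) : P) ∈ B

/-- The conclusion of the core lemma. -/
def Concl {P : Type u} [Group P] (n : ℕ) (W : ℕ → Subgroup P)
    (A : Subgroup (MulAut (W 1))) (V : Subgroup P) {Γ : Type v} [Group Γ] (ρ : Γ →* MulAut V) : Prop :=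
  ∃ i, 1 ≤ i ∧ i < n ∧ W i ≤ V ∧ ⁅W i, W 1⁆ = ⊥ ∧ AInv A (W i) ∧ GInv ρ (W i)

end Cfsg.Agent.H786
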