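import Cfsg.Agent.H786.Trace

/-!
# The trace machine for multilinear forms (helper786)
-/

set_option autoImplicit false
set_option linter.unusedSectionVars false
set_option linter.deprecated false

namespace Cfsg.Agent.H786

open Module

variable {p : ℕ} [hp : Fact p.Prime] {G : Type*} [Group G] {ι : Type*} [Fintype ι]
  {M : ι → Type*} [∀ i, AddCommGroup (M i)] [∀ i, Module (ZMod p) (M i)]

/-- the representation on multilinear forms -/
noncomputable def mlRep (ρ : ∀ i, Representation (ZMod p) G (M i)) :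
    Representation (ZMod p) G (MultilinearMap (ZMod p) M (ZMod p)) where
  toFun g := MultilinearMap.compLinearMapₗ (fun i => ρ i g⁻¹)
  map_one' := by
    apply LinearMap.ext
    intro f
    apply MultilinearMap.ext
    intro x
    simp
  map_mul' g h := by
    apply LinearMap.ext
    intro f
    apply MultilinearMap.ext
    intro x
    simp

theorem mlRep_apply (ρ : ∀ i, Representation (ZMod p) G (M i)) (g : G)
    (f : MultilinearMap (ZMod p) M (ZMod p)) (x : ∀ i, M i) :
    mlRep ρ g f x = f (fun i => ρ i g⁻¹ (x i)) := rfl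

/-- the filtration on multilinear forms -/
def mlFil (E : ∀ i, ℕ → Submodule (ZMod p) (M i)) (D : ι → ℕ) (c : ℕ) :
    Submodule (ZMod p) (MultilinearMap (ZMod p) M (ZMod p)) where
  carrier := {f | ∀ (k : ι → ℕ) (x : ∀ i, M i), (∀ i, x i ∈ E i (k i)) → ∑ i, D i < c + ∑ i, k i →
    f x = 0}
  zero_mem' := fun k x _ _ => rfl
  add_mem' := by
    intro f g hf hg k x hx hk
    rw [MultilinearMap.add_apply, hf k x hx hk, hg k x hx hk, add_zero]
  smul_mem' := by
    intro r f hf k x hx hk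
    rw [MultilinearMap.smul_apply, hf k x hx hk, smul_zero]

theorem mem_mlFil {E : ∀ i, ℕ → Submodule (ZMod p) (M i)} {D : ι → ℕ} {c : ℕ}
    {f : MultilinearMap (ZMod p) M (ZMod p)} : f ∈ mlFil E D c ↔ ∀ (k : ι → ℕ) (x : ∀ i, M i),
      (∀ i, x i ∈ E i (k i)) → ∑ i, D i < c + ∑ i, k i → f x = 0 := Iff.rfl

/-- filtration data -/
structure FilData (E : ∀ i, ℕ → Submodule (ZMod p) (M i)) (D : ι → ℕ) : Prop where
  anti : ∀ i, Antitone (E i)
  top : ∀ i, E i 0 = ⊤
  bot : ∀ i, E i (D i + 1) = ⊥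

theorem FilData.eq_zero {E : ∀ i, ℕ → Submodule (ZMod p) (M i)} {D : ι → ℕ} (h : FilData E D)
    {i : ι} {k : ℕ} (hk : D i < k) {x : M i} (hx : x ∈ E i k) : x = 0 := by
  have := h.anti i (Nat.succ_le_of_lt hk) hx
  rwa [Nat.succ_eq_add_one, h.bot, Submodule.mem_bot] at this

theorem mlFil_zero {E : ∀ i, ℕ → Submodule (ZMod p) (M i)} {D : ι → ℕ} (h : FilData E D)
    (f : MultilinearMap (ZMod p) M (ZMod p)) : f ∈ mlFil E D 0 := by
  intro k x hx hk
  rw [zero_add] at hk
  obtain ⟨i, -, hi⟩ := Finset.exists_lt_of_sum_lt hk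
  exact f.map_coord_zero i (h.eq_zero hi (hx i))

theorem mlFil_eq_zero {E : ∀ i, ℕ → Submodule (ZMod p) (M i)} {D : ι → ℕ} (h : FilData E D) {c : ℕ}
    (hc : ∑ i, D i < c) {f : MultilinearMap (ZMod p) M (ZMod p)} (hf : f ∈ mlFil E D c) : f = 0 := by
  apply MultilinearMap.ext
  intro x
  apply hf (fun _ => 0) x
  · intro i
    rw [h.top]; trivial
  · simpa using hc

/-- jumps on all the arguments -/
def JumpAll (ρ : ∀ i, Representation (ZMod p) G (M i)) (E : ∀ i, ℕ → Submodule (ZMod p) (M i))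
    (x : G) (J : ℕ) : Prop := ∀ i, ∀ k, ∀ y ∈ E i k, ρ i x y - y ∈ E i (k + J)

theorem JumpAll.one {ρ : ∀ i, Representation (ZMod p) G (M i)}
    {E : ∀ i, ℕ → Submodule (ZMod p) (M i)} {J : ℕ} : JumpAll ρ E 1 J := by
  intro i k y _
  rw [map_one, Module.End.one_apply, sub_self]
  exact zero_mem _

theorem JumpAll.mul {ρ : ∀ i, Representation (ZMod p) G (M i)}
    {E : ∀ i, ℕ → Submodule (ZMod p) (M i)} (hE : ∀ i, Antitone (E i)) {J : ℕ} {x y : G}
    (hx : JumpAll ρ E x J) (hy : JumpAll ρ E y J) : JumpAll ρ E (x * y) J := by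
  intro i k w hw
  have h1 := hy i k w hw
  have h2 : ρ i y w ∈ E i k := by
    have := (E i k).add_mem (hE i (Nat.le_add_right k J) h1) hw
    rwa [sub_add_cancel] at this
  have h3 := hx i k _ h2
  have h4 := (E i (k + J)).add_mem h3 h1
  rw [sub_add_sub_cancel] at h4
  rw [map_mul, Module.End.mul_apply]
  exact h4

theorem JumpAll.inv [Finite G] {ρ : ∀ i, Representation (ZMod p) G (M i)}
    {E : ∀ i, ℕ → Submodule (ZMod p) (M i)} (hE : ∀ i, Antitone (E i)) {J : ℕ} {x : G}
    (hx : JumpAll ρ E x J) : JumpAll ρ E x⁻¹ J := by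
  have key : ∀ m : ℕ, JumpAll ρ E (x ^ m) J := by
    intro m
    induction m with
    | zero => rw [pow_zero]; exact JumpAll.one
    | succ m ih => rw [pow_succ]; exact JumpAll.mul hE ih hx
  have e : x ^ (orderOf x - 1) = x⁻¹ := by
    rw [eq_inv_iff_mul_eq_one, ← pow_succ, Nat.sub_add_cancel (orderOf_pos x), pow_orderOf_eq_one]
  rw [← e]
  exact key _

theorem jump_mlFil [Finite G] {ρ : ∀ i, Representation (ZMod p) G (M i)}
    {E : ∀ i, ℕ → Submodule (ZMod p) (M i)} {D : ι → ℕ} (h : FilData E D) {x : G} {J : ℕ}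
    (hx : JumpAll ρ E x J) :
    Jump (fun c => (mlFil E D c).toAddSubgroup) (mlRep ρ x) J := by
  classical
  intro c f hf k y hy hk
  change f ∈ mlFil E D c at hf
  have hx' := JumpAll.inv h.anti hx
  rw [MultilinearMap.sub_apply, mlRep_apply]
  have e : (fun i => ρ i x⁻¹ (y i)) = y + fun i => (ρ i x⁻¹ (y i) - y i) := by
    funext i
    rw [Pi.add_apply, add_sub_cancel]
  rw [e, f.map_add_univ, ← Finset.add_sum_erase Finset.univ _ (Finset.mem_univ Finset.univ),
    Finset.piecewise_univ, add_sub_cancel_left]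
  apply Finset.sum_eq_zero
  intro s hs
  rw [Finset.mem_erase] at hs
  obtain ⟨i0, hi0⟩ : ∃ i, i ∉ s := by
    by_contra hcon
    push Not at hcon
    exact hs.1 (Finset.eq_univ_of_forall hcon)
  apply hf (fun i => if i ∈ s then k i else k i + J)
  · intro i
    by_cases hi : i ∈ s
    · simp only [hi, Finset.piecewise_eq_of_mem, if_true]
      exact hy i
    · simp only [hi, Finset.piecewise_eq_of_notMem, if_false, not_false_eq_true]
      exact hx' i _ _ (hy i)
  · have h1 : J + ∑ i, k i ≤ ∑ i, (if i ∈ s then k i else k i + J) := by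
      rw [← Finset.add_sum_erase Finset.univ k (Finset.mem_univ i0),
        ← Finset.add_sum_erase Finset.univ _ (Finset.mem_univ i0)]
      simp only [hi0, if_false]
      have h2 : ∑ i ∈ Finset.univ.erase i0, k i ≤
          ∑ i ∈ Finset.univ.erase i0, (if i ∈ s then k i else k i + J) := by
        apply Finset.sum_le_sum
        intro i _
        split_ifs <;> omega
      omega
    omega

/-- **Trace machine for multilinear forms.** -/
theorem ml_exists [Finite G] (ρ : ∀ i, Representation (ZMod p) G (M i))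
    {E : ∀ i, ℕ → Submodule (ZMod p) (M i)} {D : ι → ℕ} (h : FilData E D) {H Q : Subgroup G}
    (hQH : Q ≤ H) (hfree : ∀ g, g ∉ H → ∀ u ∈ Q, g⁻¹ * u * g ∈ H → u = 1) {S : ℕ}
    (hQ : NChain p (JumpAll ρ E) Q S) (hinv : ∀ x ∈ Q, JumpAll ρ E x 0)
    (f : MultilinearMap (ZMod p) M (ZMod p)) (hf : ∀ h ∈ H, mlRep ρ h f = f) :
    ∃ f' : MultilinearMap (ZMod p) M (ZMod p), (∀ g, mlRep ρ g f' = f') ∧
      f' - f ∈ mlFil E D ((p - 1) * S) := by
  refine exists_fixed (mlRep ρ) hQH hfree (mlFil E D ((p - 1) * S)).toAddSubgroup f hf ?_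
  intro g
  have h1 := nrm_mem (mlRep ρ) (fun c => (mlFil E D c).toAddSubgroup)
    (hQ.mono (fun x J hx => jump_mlFil h hx)) (fun x hx => jump_mlFil h (hinv x hx)) 0
    (mlRep ρ g f) (mlFil_zero h _)
  rw [zero_add] at h1
  exact h1

/-- forms fixed by `H` are fixed by `G` -/
theorem ml_fixed [Finite G] (ρ : ∀ i, Representation (ZMod p) G (M i))
    {E : ∀ i, ℕ → Submodule (ZMod p) (M i)} {D : ι → ℕ} (h : FilData E D) {H Q : Subgroup G}
    (hQH : Q ≤ H) (hfree : ∀ g, g ∉ H → ∀ u ∈ Q, g⁻¹ * u * g ∈ H → u = 1) {S : ℕ}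
    (hQ : NChain p (JumpAll ρ E) Q S) (hinv : ∀ x ∈ Q, JumpAll ρ E x 0)
    (hS : ∑ i, D i < (p - 1) * S)
    (f : MultilinearMap (ZMod p) M (ZMod p)) (hf : ∀ h ∈ H, mlRep ρ h f = f) (g : G) :
    mlRep ρ g f = f := by
  obtain ⟨f', h1, h2⟩ := ml_exists ρ h hQH hfree hQ hinv f hf
  have h3 := mlFil_eq_zero h hS h2
  rw [sub_eq_zero] at h3
  rw [← h3]
  exact h1 g

end Cfsg.Agent.H786
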