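import Cfsg.Agent.H786.MLin

/-!
# Pure tensors (helper786)
-/

set_option autoImplicit false
set_option linter.unusedSectionVars false
set_option linter.deprecated false

namespace Cfsg.Agent.H786

open Module

variable {p : ℕ} [hp : Fact p.Prime] {G : Type*} [Group G]

section Dual

variable {U : Type*} [AddCommGroup U] [Module (ZMod p) U]

/-- the dual filtration -/
def dualFil (F : ℕ → Submodule (ZMod p) U) (D : ℕ) (k : ℕ) : Submodule (ZMod p) (Dual (ZMod p) U) :=
  (F (D + 1 - k)).dualAnnihilator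

theorem mem_dualFil {F : ℕ → Submodule (ZMod p) U} {D k : ℕ} {φ : Dual (ZMod p) U} :
    φ ∈ dualFil F D k ↔ ∀ w ∈ F (D + 1 - k), φ w = 0 := Submodule.mem_dualAnnihilator _

theorem dualFil_jump {ρ : Representation (ZMod p) G U} {F : ℕ → Submodule (ZMod p) U} {D : ℕ}
    (hanti : Antitone F) {x : G} {J : ℕ} (hx : ∀ k, ∀ y ∈ F k, ρ x⁻¹ y - y ∈ F (k + J)) {k : ℕ}
    {φ : Dual (ZMod p) U} (hφ : φ ∈ dualFil F D k) : ρ.dual x φ - φ ∈ dualFil F D (k + J) := by
  rw [mem_dualFil] at hφ ⊢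
  intro w hw
  have h1 := hφ (ρ x⁻¹ w - w) (hanti (by omega) (hx _ w hw))
  rw [map_sub] at h1
  rw [LinearMap.sub_apply, Representation.dual_apply, Dual.transpose_apply]
  exact h1

end Dual

variable {ι : Type*} [Fintype ι] {U : ι → Type*} [∀ i, AddCommGroup (U i)]
  [∀ i, Module (ZMod p) (U i)]

theorem FilData.dual {F : ∀ i, ℕ → Submodule (ZMod p) (U i)} {D : ι → ℕ} (h : FilData F D) :
    FilData (fun i => dualFil (F i) (D i)) D where
  anti i k k' hk := Submodule.dualAnnihilator_anti (h.anti i (by omega))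
  top i := by
    rw [dualFil, Nat.sub_zero, h.bot, Submodule.dualAnnihilator_bot]
  bot i := by
    rw [dualFil, Nat.sub_self, h.top, Submodule.dualAnnihilator_top]

theorem JumpAll.dual [Finite G] {ρ : ∀ i, Representation (ZMod p) G (U i)}
    {F : ∀ i, ℕ → Submodule (ZMod p) (U i)} {D : ι → ℕ} (h : FilData F D) {x : G} {J : ℕ}
    (hx : JumpAll ρ F x J) : JumpAll (fun i => (ρ i).dual) (fun i => dualFil (F i) (D i)) x J := by
  intro i k φ hφ
  exact dualFil_jump (h.anti i) (JumpAll.inv h.anti hx i) hφ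

/-- **Pure tensors.** -/
theorem pureT [Finite G] (ρ : ∀ i, Representation (ZMod p) G (U i))
    {F : ∀ i, ℕ → Submodule (ZMod p) (U i)} {D : ι → ℕ} (h : FilData F D) {H Q : Subgroup G}
    (hQH : Q ≤ H) (hfree : ∀ g, g ∉ H → ∀ u ∈ Q, g⁻¹ * u * g ∈ H → u = 1) {S : ℕ}
    (hQ : NChain p (JumpAll ρ F) Q S) (hinv : ∀ x ∈ Q, JumpAll ρ F x 0)
    (hS : ∑ i, D i < (p - 1) * S) (v : ∀ i, U i) (hv : ∀ i, v i ≠ 0)
    (hH : ∀ h ∈ H, ∃ c : ι → ZMod p, (∀ i, ρ i h (v i) = c i • v i) ∧ ∏ i, c i = 1) (g : G) (i : ι) :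
    ∃ c : ZMod p, ρ i g (v i) = c • v i := by
  classical
  set f : MultilinearMap (ZMod p) (fun i => Dual (ZMod p) (U i)) (ZMod p) :=
    (MultilinearMap.mkPiAlgebra (ZMod p) ι (ZMod p)).compLinearMap
      (fun i => Dual.eval (ZMod p) (U i) (v i)) with hf
  have hfa : ∀ φ : ∀ i, Dual (ZMod p) (U i), f φ = ∏ i, φ i (v i) := by
    intro φ
    rw [hf, MultilinearMap.compLinearMap_apply, MultilinearMap.mkPiAlgebra_apply]
    rfl
  have hrep : ∀ (g : G) (φ : ∀ i, Dual (ZMod p) (U i)),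
      mlRep (fun i => (ρ i).dual) g f φ = ∏ i, φ i (ρ i g (v i)) := by
    intro g φ
    rw [mlRep_apply, hfa]
    apply Finset.prod_congr rfl
    intro i _
    rw [Representation.dual_apply, Dual.transpose_apply, LinearMap.comp_apply, inv_inv]
  have hfix : ∀ h ∈ H, mlRep (fun i => (ρ i).dual) h f = f := by
    intro h hh
    obtain ⟨c, hc, hc1⟩ := hH h hh
    apply MultilinearMap.ext
    intro φ
    rw [hrep, hfa]
    have : ∀ i, φ i (ρ i h (v i)) = c i * φ i (v i) := by
      intro i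
      rw [hc i, map_smul, smul_eq_mul]
    simp_rw [this]
    rw [Finset.prod_mul_distrib, hc1, one_mul]
  have hG := ml_fixed (fun i => (ρ i).dual) h.dual hQH hfree
    (hQ.mono (fun x J hx => JumpAll.dual h hx)) (fun x hx => JumpAll.dual h (hinv x hx)) hS f hfix g
  have hprod : ∀ φ : ∀ i, Dual (ZMod p) (U i), ∏ i, φ i (ρ i g (v i)) = ∏ i, φ i (v i) := by
    intro φ
    rw [← hrep, hG, hfa]
  -- dual vectors not vanishing at `g v_j`
  have hgv : ∀ j, ρ j g (v j) ≠ 0 := by
    intro j h0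
    apply hv j
    have := congrArg (ρ j g⁻¹) h0
    rwa [map_zero, Representation.inv_self_apply] at this
  have hex : ∀ j, ∃ ψ : Dual (ZMod p) (U j), ψ (ρ j g (v j)) ≠ 0 := by
    intro j
    obtain ⟨ψ, hψ, -⟩ := Submodule.exists_dual_map_eq_bot_of_notMem (p := (⊥ : Submodule (ZMod p) (U j)))
      (x := ρ j g (v j)) (by rw [Submodule.mem_bot]; exact hgv j) inferInstance
    exact ⟨ψ, hψ⟩
  choose ψ hψ using hex
  have hmem : ρ i g (v i) ∈ Submodule.span (ZMod p) {v i} := by
    by_contra hcon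
    obtain ⟨φ, hφ, hφ'⟩ := Submodule.exists_dual_map_eq_bot_of_notMem hcon inferInstance
    have hφv : φ (v i) = 0 := by
      have : φ (v i) ∈ (Submodule.span (ZMod p) {v i}).map φ :=
        Submodule.mem_map_of_mem (Submodule.mem_span_singleton_self _)
      rwa [hφ', Submodule.mem_bot] at this
    have h1 := hprod (Function.update ψ i φ)
    have h2 : ∏ j, (Function.update ψ i φ) j (v j) = 0 := by
      apply Finset.prod_eq_zero (Finset.mem_univ i)
      rw [Function.update_self]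
      exact hφv
    rw [h2, Finset.prod_eq_zero_iff] at h1
    obtain ⟨j, -, hj⟩ := h1
    by_cases hji : j = i
    · subst hji
      rw [Function.update_self] at hj
      exact hφ hj
    · rw [Function.update_of_ne hji] at hj
      exact hψ j hj
  obtain ⟨c, hc⟩ := Submodule.mem_span_singleton.mp hmem
  exact ⟨c, hc.symm⟩

end Cfsg.Agent.H786
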