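import Cfsg.Agent.H786.VRep

/-!
# Pure tensors and bilinear forms for `V` (helper786)
-/

set_option autoImplicit false
set_option linter.unusedSectionVars false
set_option linter.deprecated false

namespace Cfsg.Agent.H786

open Subgroup Cfsg.Agent.H467.MaxClass Cfsg.Agent.H785 Module
open scoped commutatorElement

universe u v

namespace Cfg

variable {P : Type u} [Group P] [Finite P] {p n : ℕ} [hp : Fact p.Prime] {W : ℕ → Subgroup P}
  [hW1 : (W 1).Normal] {A : Subgroup (MulAut (W 1))} {E V : Subgroup P} {Γ : Type v} [Group Γ]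
  [Finite Γ] {ρ : Γ →* MulAut V} {H : Subgroup Γ} {τ : (normalizer (E : Set P)) →* Γ}

/-- jumps on `V` -/
def Jp (c : Cfg p n W A E V ρ H τ) (a : ℕ) (x : Γ) (J : ℕ) : Prop :=
  ∀ k, ∀ y ∈ c.fil a k, c.rep x y - y ∈ c.fil a (k + J)

theorem Jp_τ (c : Cfg p n W A E V ρ H τ) {a J : ℕ} {s : normalizer (E : Set P)}
    (hs : ∀ i, a ≤ i → ∀ v ∈ W i, ⁅(s : P), v⁆ ∈ W (i + J)) : c.Jp a (τ s) J := by
  intro k v hv
  rw [mem_fil, toV_rep_τ, ← add_assoc]
  exact hs _ (Nat.le_add_right a k) _ hv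

theorem Jp_zero (c : Cfg p n W A E V ρ H τ) {a : ℕ} : ∀ x ∈ τ.range, c.Jp a x 0 := by
  rintro _ ⟨s, rfl⟩
  apply c.Jp_τ
  intro i _ v hv
  exact c.mc.antitone (Nat.le_succ i) (c.mc.comm_mem' hv)

/-- scalar action on a layer of `V` -/
theorem exists_scalar_H (c : Cfg p n W A E V ρ H τ) {φ : ℕ → P → ZMod p} (hφ : Coord p n W φ)
    (hA : AInv A (W (n - 1))) {h : Γ} (hh : h ∈ H) :
    ∃ r : ZMod p, r ≠ 0 ∧ ∀ v : V, (v : P) ∈ W (n - 1) → φ (n - 1) (ρ h v : V) = r * φ (n - 1) v := by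
  have h4 := c.mc.four_le
  obtain ⟨a, ha, -, h2⟩ := c.ext_ap hh
  have hbot : AInv A (W (n - 1 + 1)) := by
    rw [aInv_iff]
    intro b _ x _ hx
    rw [c.mc.bot_of_le (i := n - 1 + 1) (by omega), mem_bot] at hx
    rw [hx, ap_one]
    exact one_mem _
  obtain ⟨r, hr, hr'⟩ := exists_scalar hφ c.mc ha (i := n - 1) (by omega) (by omega) hA hbot
  refine ⟨r, hr, fun v hv => ?_⟩
  rw [← h2 v]
  exact hr' v hv

/-- **Pure tensors** of the generator of `W (n - 1)`. -/
theorem ginv_of_pure (c : Cfg p n W A E V ρ H τ) {a m S : ℕ} (hVa : V ≤ W a) (han : a < n)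
    (hm : 1 ≤ m) (hA : AInv A (W (n - 1))) (hQ : NChain p (c.Jp a) τ.range S)
    (hS : m * (n - 1 - a) < (p - 1) * S) {φ : ℕ → P → ZMod p} (hφ : Coord p n W φ)
    (hH : ∀ h ∈ H, ∀ r : ZMod p, r ≠ 0 →
      (∀ v : V, (v : P) ∈ W (n - 1) → φ (n - 1) (ρ h v : V) = r * φ (n - 1) v) → r ^ m = 1) :
    GInv ρ (W (n - 1)) := by
  have h4 := c.mc.four_le
  obtain ⟨w, hw, hw1⟩ := hφ.exists_eq_one c.mc (i := n - 1) (by omega)
  have hwV : w ∈ V := c.W_sub_one_le_V hw
  have hW0 : ∀ x ∈ W (n - 1), φ (n - 1) x = 0 → x = 1 := by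
    intro x hx hx0
    have := (hφ.zero (n - 1) (by omega) x hx).mp hx0
    rw [c.mc.bot_of_le (by omega), mem_bot] at this
    exact this
  -- elements of `W (n - 1)` are determined by the coordinate
  have hinj : ∀ x ∈ W (n - 1), ∀ y ∈ W (n - 1), φ (n - 1) x = φ (n - 1) y → x = y := by
    intro x hx y hy hxy
    have h1 : φ (n - 1) (x * y⁻¹) = 0 := by
      rw [hφ.mul _ (by omega) x hx _ (inv_mem hy), hφ.inv (by omega) hy, hxy, add_neg_cancel]
    have := hW0 _ (mul_mem hx (inv_mem hy)) h1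
    exact mul_inv_eq_one.mp this
  set b : VM c := c.ofV ⟨w, hwV⟩ with hb
  have hb0 : b ≠ 0 := by
    intro h
    have h1 : c.toV b = c.toV 0 := by rw [h]
    rw [toV_zero] at h1
    have h2 : w = 1 := congrArg Subtype.val h1
    rw [h2, hφ.one (by omega)] at hw1
    exact zero_ne_one hw1
  have hinst : Fact (1 < p) := ⟨hp.out.one_lt⟩
  have hsm : ∀ (r : ZMod p) (x : V), (x : P) ∈ W (n - 1) → φ (n - 1) x = r → c.ofV x = r • b := by
    intro r x hx hxr
    apply c.toV_injective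
    rw [toV_ofV, toV_smul]
    apply Subtype.ext
    rw [Subgroup.coe_pow]
    apply hinj _ hx _ (pow_mem hw _)
    rw [hxr]
    show r = φ (n - 1) (w ^ r.val)
    rw [hφ.pow (by omega) hw, hw1, ZMod.natCast_val, ZMod.cast_id', id_eq, mul_one]
  have hmain := pureT (ι := Fin m) (U := fun _ => VM c) (fun _ => c.rep) (F := fun _ => c.fil a)
    (D := fun _ => n - 1 - a) (c.filData hVa han (Fin m)) (H := H) (Q := τ.range) c.se.le
    c.se.emb (S := S) (hQ.mono (fun x J hx _ => hx)) (fun x hx _ => c.Jp_zero x hx)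
    (by rw [Finset.sum_const, Finset.card_univ, Fintype.card_fin, smul_eq_mul]; exact hS)
    (fun _ => b) (fun _ => hb0) (by
      intro h hh
      obtain ⟨r, hr, hr'⟩ := c.exists_scalar_H hφ hA hh
      refine ⟨fun _ => r, fun _ => ?_, ?_⟩
      · have h1 : (ρ h ⟨w, hwV⟩ : P) ∈ W (n - 1) := c.H_inv hA hh hw
        have h2 := hr' ⟨w, hwV⟩ hw
        rw [hw1, mul_one] at h2
        exact hsm r _ h1 h2
      · rw [Finset.prod_const, Finset.card_univ, Fintype.card_fin]
        exact hH h hh r hr hr')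
  intro g e he
  obtain ⟨r, hr⟩ := hmain g ⟨0, by omega⟩
  -- `e` is a multiple of `b`
  have he' : c.ofV e = φ (n - 1) e • b := hsm _ e he rfl
  have h1 : c.rep g (c.ofV e) = (φ (n - 1) e * r) • b := by
    rw [he', map_smul, hr, smul_smul]
  have h2 : ((c.toV (c.rep g (c.ofV e)) : V) : P) = (ρ g e : V) := rfl
  rw [← h2, h1, toV_smul, Subgroup.coe_pow]
  exact pow_mem hw _

/-- **Invariant bilinear forms.** -/
theorem ginv_of_dual (c : Cfg p n W A E V ρ H τ) {a i S : ℕ} (hVa : V ≤ W a) (han : a < n)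
    (hiV : W i ≤ V) (hQ : NChain p (c.Jp a) τ.range S) (hS : 2 * (n - 1 - a) < (p - 1) * S)
    (θ : (W i →* Multiplicative (ZMod p)) →* W i) (hθ : Function.Surjective θ)
    (hθA : ∀ α ∈ A, ∀ f f' : W i →* Multiplicative (ZMod p),
      (∀ w w' : W i, (w' : P) = ap α (w : P) → f' w' = f w) →
      ((θ f' : W i) : P) = ap α ((θ f : W i) : P)) : GInv ρ (W i) := by
  -- restriction of linear forms on `V` to `W i`
  let res : Dual (ZMod p) (VM c) → (W i →* Multiplicative (ZMod p)) := fun φ =>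
    { toFun := fun w => Multiplicative.ofAdd (φ (c.ofV ⟨w, hiV w.2⟩))
      map_one' := by
        have : c.ofV ⟨((1 : W i) : P), hiV (1 : W i).2⟩ = 0 := rfl
        rw [this, map_zero, ofAdd_zero]
      map_mul' := by
        intro w w'
        have : c.ofV ⟨((w * w' : W i) : P), hiV (w * w').2⟩ =
          c.ofV ⟨w, hiV w.2⟩ + c.ofV ⟨w', hiV w'.2⟩ := rfl
        rw [this, map_add, ofAdd_add] }
  have hres_apply : ∀ φ (w : W i), res φ w = Multiplicative.ofAdd (φ (c.ofV ⟨w, hiV w.2⟩)) :=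
    fun _ _ => rfl
  have hres_add : ∀ φ ψ, res (φ + ψ) = res φ * res ψ := by
    intro φ ψ
    ext w
    rfl
  let Θ0 : Dual (ZMod p) (VM c) →+ VM c :=
    { toFun := fun φ => c.ofV ⟨(θ (res φ) : W i), hiV (SetLike.coe_mem _)⟩
      map_zero' := by
        have : res 0 = 1 := rfl
        rw [this, map_one]
        rfl
      map_add' := by
        intro φ ψ
        rw [hres_add, map_mul]
        rfl }
  let Θ : Dual (ZMod p) (VM c) →ₗ[ZMod p] VM c := Θ0.toZModLinearMap p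
  have hΘ : ∀ φ, ((c.toV (Θ φ) : V) : P) = (θ (res φ) : W i) := fun _ => rfl
  -- the form
  let f : MultilinearMap (ZMod p) (fun _ : Fin 2 => Dual (ZMod p) (VM c)) (ZMod p) :=
    { toFun := fun x => x 0 (Θ (x 1))
      map_update_add' := by
        intro _ x i φ ψ
        fin_cases i
        · simp
        · simp
      map_update_smul' := by
        intro _ x i r φ
        fin_cases i
        · simp
        · simp }
  have hf : ∀ x, f x = x 0 (Θ (x 1)) := fun _ => rfl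
  have hrep : ∀ (g : Γ) (x : Fin 2 → Dual (ZMod p) (VM c)),
      mlRep (fun _ : Fin 2 => c.rep.dual) g f x = x 0 (c.rep g (Θ (x 1 ∘ₗ c.rep g))) := by
    intro g x
    rw [mlRep_apply, hf, Representation.dual_apply, Dual.transpose_apply, inv_inv]
    rfl
  have hfil := (c.filData hVa han (Fin 2)).dual
  have hfix : ∀ h ∈ H, mlRep (fun _ : Fin 2 => c.rep.dual) h f = f := by
    intro h hh
    apply MultilinearMap.ext
    intro x
    rw [hrep, hf]
    congr 1
    -- equivariance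
    obtain ⟨α, hα, -, hα2⟩ := c.ext_ap hh
    apply c.toV_injective
    apply Subtype.ext
    rw [hΘ, toV_rep]
    have h1 := hθA α hα (res (x 1 ∘ₗ c.rep h)) (res (x 1)) (by
      intro w w' hww
      rw [hres_apply, hres_apply]
      congr 1
      rw [LinearMap.comp_apply]
      congr 1
      apply c.toV_injective
      apply Subtype.ext
      show (w' : P) = (ρ h ⟨w, hiV w.2⟩ : V)
      rw [hww, ← hα2 ⟨w, hiV w.2⟩])
    rw [h1, ← hα2]
    rfl
  have hG := fun g => ml_fixed (fun _ : Fin 2 => c.rep.dual) hfil c.se.le c.se.emb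
    ((hQ.mono (fun x J hx => JumpAll.dual (c.filData hVa han (Fin 2)) (fun _ => hx))))
    (fun x hx => JumpAll.dual (c.filData hVa han (Fin 2)) (fun _ => c.Jp_zero x hx))
    (by rw [Finset.sum_const, Finset.card_univ, Fintype.card_fin, smul_eq_mul]; exact hS) f hfix g
  have hkey : ∀ (g : Γ) (φ : Dual (ZMod p) (VM c)), c.rep g (Θ (φ ∘ₗ c.rep g)) = Θ φ := by
    intro g φ
    by_contra hne
    have hne' : c.rep g (Θ (φ ∘ₗ c.rep g)) - Θ φ ≠ 0 := sub_ne_zero.mpr hne
    obtain ⟨ψ, hψ, -⟩ := Submodule.exists_dual_map_eq_bot_of_notMem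
      (p := (⊥ : Submodule (ZMod p) (VM c))) (x := c.rep g (Θ (φ ∘ₗ c.rep g)) - Θ φ)
      (by rw [Submodule.mem_bot]; exact hne') inferInstance
    apply hψ
    rw [map_sub, sub_eq_zero]
    have h1 := hrep g ![ψ, φ]
    rw [hG g, hf] at h1
    simp only [Matrix.cons_val_zero, Matrix.cons_val_one] at h1
    exact h1.symm
  intro g e he
  -- `e = Θ φ`
  obtain ⟨ψ, hψ⟩ := hθ ⟨e, he⟩
  -- extend `ψ` to `V`
  let B : Submodule (ZMod p) (VM c) := AddSubgroup.toZModSubmodule p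
    { carrier := {v | ((c.toV v : V) : P) ∈ W i}
      zero_mem' := (W i).one_mem
      add_mem' := fun {_ _} hv hw => (W i).mul_mem hv hw
      neg_mem' := fun {_} hv => (W i).inv_mem hv }
  let ψ0 : B →+ ZMod p :=
    { toFun := fun v => Multiplicative.toAdd (ψ ⟨((c.toV (v : VM c) : V) : P), v.2⟩)
      map_zero' := by
        have : (⟨((c.toV ((0 : B) : VM c) : V) : P), (0 : B).2⟩ : W i) = 1 := rfl
        rw [this, map_one, toAdd_one]
      map_add' := by
        intro v v'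
        have : (⟨((c.toV ((v + v' : B) : VM c) : V) : P), (v + v').2⟩ : W i) =
          ⟨((c.toV (v : VM c) : V) : P), v.2⟩ * ⟨((c.toV (v' : VM c) : V) : P), v'.2⟩ := rfl
        rw [this, map_mul, toAdd_mul] }
  obtain ⟨φ, hφ⟩ := LinearMap.exists_extend (ψ0.toZModLinearMap p)
  have hφψ : res φ = ψ := by
    ext w
    rw [hres_apply]
    have h1 : φ (c.ofV ⟨w, hiV w.2⟩) = ψ0 ⟨c.ofV ⟨w, hiV w.2⟩, w.2⟩ := by
      have := congrArg (fun F : B →ₗ[ZMod p] ZMod p => F ⟨c.ofV ⟨w, hiV w.2⟩, w.2⟩) hφ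
      exact this
    rw [h1]
    rfl
  have he' : c.ofV e = Θ φ := by
    apply c.toV_injective
    apply Subtype.ext
    rw [hΘ, hφψ, hψ]
    rfl
  -- `g e = Θ (φ ∘ g⁻¹)`
  have h1 := hkey g (φ ∘ₗ c.rep g⁻¹)
  have h2 : (φ ∘ₗ c.rep g⁻¹) ∘ₗ c.rep g = φ := by
    apply LinearMap.ext
    intro v
    rw [LinearMap.comp_apply, LinearMap.comp_apply, Representation.inv_self_apply]
  rw [h2, ← he'] at h1
  have h3 : ((c.toV (c.rep g (c.ofV e)) : V) : P) = (ρ g e : V) := rfl
  rw [← h3, h1, hΘ]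
  exact SetLike.coe_mem _

end Cfg

end Cfsg.Agent.H786
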