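import Cfsg.Agent.H786.Weight

/-!
# Set-up for the proof of the core lemma (helper786)
-/

set_option autoImplicit false
set_option linter.unusedSectionVars false

namespace Cfsg.Agent.H786

open Subgroup Cfsg.Agent.H467.MaxClass
open scoped commutatorElement

universe u v

namespace Cfg

variable {P : Type u} [Group P] [Finite P] {p n : ℕ} [hp : Fact p.Prime] {W : ℕ → Subgroup P}
  [hW1 : (W 1).Normal] {A : Subgroup (MulAut (W 1))} {E V : Subgroup P} {Γ : Type v} [Group Γ]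
  [Finite Γ] {ρ : Γ →* MulAut V} {H : Subgroup Γ} {τ : (normalizer (E : Set P)) →* Γ}

theorem ext_ap (c : Cfg p n W A E V ρ H τ) {h : Γ} (hh : h ∈ H) :
    ∃ a ∈ A, (∀ x ∈ W 1, x ∈ E ↔ ap a x ∈ E) ∧ ∀ v : V, ap a (v : P) = (ρ h v : V) := by
  obtain ⟨a, ha, h1, h2⟩ := c.ext h hh
  refine ⟨a, ha, ?_, ?_⟩
  · intro x hx
    rw [ap_of_mem a hx]
    exact h1 ⟨x, hx⟩
  · intro v
    rw [ap_of_mem a (c.V_le v.2)]
    exact h2 v _ rfl

theorem V_commute (c : Cfg p n W A E V ρ H τ) {v w : P} (hv : v ∈ V) (hw : w ∈ V) : Commute v w :=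
  (c.V_comm hw (c.V_le_E hv))

/-- `A`-invariant subgroups are `H`-invariant -/
theorem H_inv (c : Cfg p n W A E V ρ H τ) {B : Subgroup P} (hB : AInv A B) {h : Γ} (hh : h ∈ H)
    {v : V} (hv : (v : P) ∈ B) : ((ρ h v : V) : P) ∈ B := by
  obtain ⟨a, ha, -, h2⟩ := c.ext_ap hh
  rw [← h2]
  exact aInv_iff.mp hB a ha _ (c.V_le v.2) hv

theorem le_V (c : Cfg p n W A E V ρ H τ) {B : Subgroup P} (h1 : ⁅B, W 1⁆ = ⊥)
    (hp1 : ∀ b ∈ B, b ^ p = 1) : B ≤ V := by
  have hc : ∀ b ∈ B, ∀ e ∈ W 1, Commute b e := by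
    intro b hb e he
    have h2 : ⁅b, e⁆ ∈ ⁅B, W 1⁆ := commutator_mem_commutator hb he
    rw [h1, mem_bot] at h2
    exact commutatorElement_eq_one_iff_commute.mp h2
  intro b hb
  rw [c.mem_V]
  exact ⟨c.cent b (fun e he => hc b hb e (c.E_le he)), hp1 b hb,
    fun e he => (hc b hb e (c.E_le he)).symm⟩

theorem three_le (c : Cfg p n W A E V ρ H τ) : 3 ≤ p := le_trans (by norm_num) c.five

theorem Ksub_last (c : Cfg p n W A E V ρ H τ) : c.mc.Ksub (n - 2) = W 1 := by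
  have h4 := c.mc.four_le
  apply c.mc.eq_W1
  · intro y hy w hw
    have h1 := c.deg (n - 2) 1 (by omega) le_rfl (commutator_mem_commutator hw hy)
    rwa [show n - 2 + 1 + 1 = n - 2 + 2 by omega] at h1
  · exact c.mc.Ksub_ne_top' (by omega) (by omega)

theorem W_sub_two_le_V (c : Cfg p n W A E V ρ H τ) : W (n - 2) ≤ V := by
  have h4 := c.mc.four_le
  apply c.le_V
  · have h1 := c.deg (n - 2) 1 (by omega) le_rfl
    rw [c.mc.bot_of_le (i := n - 2 + 1 + 1) (by omega)] at h1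
    exact eq_bot_iff.mpr h1
  · intro b hb
    have h1 := c.mc.pow_mem c.three_le (by omega) hb
    have h3 := c.five
    rw [c.mc.bot_of_le (by omega)] at h1
    exact mem_bot.mp h1

theorem W_sub_one_le_V (c : Cfg p n W A E V ρ H τ) : W (n - 1) ≤ V :=
  (c.mc.antitone (by omega)).trans c.W_sub_two_le_V

/-- the least index `a` of `V` -/
theorem exists_a (c : Cfg p n W A E V ρ H τ) :
    ∃ a, 1 ≤ a ∧ a + 2 ≤ n ∧ V ≤ W a ∧ ∃ v ∈ V, v ∉ W (a + 1) := by
  classical
  have h4 := c.mc.four_le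
  have hex : ∃ j, ¬ V ≤ W (j + 1) := by
    refine ⟨n - 1, fun h => ?_⟩
    rw [c.mc.bot_of_le (by omega)] at h
    obtain ⟨w, hw, hw'⟩ := c.mc.ne_succ (i := n - 1) (by omega)
    apply hw'
    rw [mem_bot.mp (h (c.W_sub_one_le_V hw))]
    exact one_mem _
  set a := Nat.find hex with ha
  have h1 : ¬ V ≤ W (a + 1) := Nat.find_spec hex
  have ha1 : 1 ≤ a := by
    by_contra h0
    have : a = 0 := by omega
    rw [this] at h1
    exact h1 c.V_le
  have h2 : V ≤ W a := by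
    have := Nat.find_min hex (m := a - 1) (by omega)
    rw [not_not, show a - 1 + 1 = a by omega] at this
    exact this
  refine ⟨a, ha1, ?_, h2, ?_⟩
  · by_contra hcon
    have h5 : W (n - 2) ≤ W (n - 1) := (c.W_sub_two_le_V.trans h2).trans (c.mc.antitone (by omega))
    obtain ⟨w, hw, hw'⟩ := c.mc.ne_succ (i := n - 2) (by omega)
    apply hw'
    rw [show n - 2 + 1 = n - 1 by omega]
    exact h5 hw
  · by_contra hcon
    push Not at hcon
    exact h1 hcon

/-- the range of indices of `V` -/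
theorem range_le (c : Cfg p n W A E V ρ H τ) {a : ℕ} (ha : 1 ≤ a) {v : P} (hv : v ∈ V)
    (hva : v ∈ W a) (hva' : v ∉ W (a + 1)) : n - 1 - a ≤ p - 1 ∧ (p + 2 ≤ n → n - 1 - a ≤ p - 2) := by
  have h5 := c.five
  have h1 : p + 2 ≤ n → n - 1 - a ≤ p - 2 := by
    intro hn
    by_contra hcon
    have h2 := c.mc.pow_notMem_one c.three_le hn ha (by omega) hva hva'
    rw [c.V_pow hv] at h2
    exact h2 (one_mem _)
  refine ⟨?_, h1⟩
  rcases Nat.lt_or_ge n (p + 2) with h2 | h2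
  · omega
  · have := h1 h2; omega

/-- the least `t` with `W t ≤ E` -/
theorem exists_t (c : Cfg p n W A E V ρ H τ) :
    ∃ t, 2 ≤ t ∧ t + 1 ≤ n ∧ W t ≤ E ∧ ∃ z ∈ W (t - 1), z ∉ E := by
  classical
  have h4 := c.mc.four_le
  have hex : ∃ j, W j ≤ E := ⟨n - 1, c.W_sub_one_le_V.trans c.V_le_E⟩
  set t := Nat.find hex with ht
  have h1 : W t ≤ E := Nat.find_spec hex
  have h2 : t ≤ n - 1 := Nat.find_min' hex (c.W_sub_one_le_V.trans c.V_le_E)
  have h3 : 2 ≤ t := by
    by_contra h0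
    have h5 : W 1 ≤ E := (c.mc.antitone (by omega)).trans h1
    exact c.E_ne (le_antisymm c.E_le h5)
  refine ⟨t, h3, by omega, h1, ?_⟩
  have := Nat.find_min hex (m := t - 1) (by omega)
  by_contra hcon
  push Not at hcon
  exact this hcon

/-- elements of `W j` normalize `E` if `W (j + 2) ≤ E` -/
theorem mem_T (c : Cfg p n W A E V ρ H τ) {j : ℕ} (hj : 1 ≤ j) (hE : W (j + 2) ≤ E) {s : P}
    (hs : s ∈ W j) : s ∈ normalizer (E : Set P) := by
  have key : ∀ s ∈ W j, ∀ e ∈ E, s * e * s⁻¹ ∈ E := by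
    intro s hs e he
    have h1 : ⁅s, e⁆ ∈ E :=
      hE (by
        have := c.deg j 1 hj le_rfl (commutator_mem_commutator hs (c.E_le he))
        rwa [show j + 1 + 1 = j + 2 by omega] at this)
    have e1 : s * e * s⁻¹ = ⁅s, e⁆ * e := by simp only [commutatorElement_def]; group
    rw [e1]
    exact mul_mem h1 he
  rw [mem_normalizer_iff]
  intro e
  refine ⟨fun he => key s hs e he, fun he => ?_⟩
  have := key s⁻¹ (inv_mem hs) _ he
  have e2 : s⁻¹ * (s * e * s⁻¹) * s⁻¹⁻¹ = e := by group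
  rwa [e2] at this

/-- `E = C_P(V)` if no element of `N_P(E) - E` centralizes `V` -/
theorem mem_E_of_commute (c : Cfg p n W A E V ρ H τ)
    (hf : ∀ s ∈ normalizer (E : Set P), (∀ v ∈ V, Commute s v) → s ∈ E) {s : P}
    (hs : ∀ v ∈ V, Commute s v) : s ∈ E := by
  by_contra hsE
  set C : Subgroup P := Subgroup.centralizer (V : Set P) with hC
  have hmemC : ∀ x, x ∈ C ↔ ∀ v ∈ V, Commute x v := by
    intro x
    rw [hC, mem_centralizer_iff]
    exact ⟨fun h v hv => (h v hv).symm, fun h v hv => (h v hv).symm⟩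
  have hEC : E ≤ C := fun e he => (hmemC e).mpr (fun v hv => c.V_comm hv he)
  have hlt : E.subgroupOf C < ⊤ := by
    rw [lt_top_iff_ne_top]
    intro h
    rw [subgroupOf_eq_top] at h
    exact hsE (h ((hmemC s).mpr hs))
  have hnil : Group.IsNilpotent C := (c.pgroup.to_subgroup C).isNilpotent
  have h1 := Group.normalizerCondition_of_isNilpotent (G := C) _ hlt
  obtain ⟨⟨y, hyC⟩, hy, hy'⟩ := SetLike.exists_of_lt h1
  apply hy'
  rw [mem_subgroupOf]
  apply hf y _ ((hmemC y).mp hyC)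
  rw [mem_normalizer_iff] at hy ⊢
  intro e
  constructor
  · intro he
    have := (hy ⟨e, hEC he⟩).mp (mem_subgroupOf.mpr he)
    simpa [mem_subgroupOf] using this
  · intro he
    have heC : e ∈ C := by
      have := C.mul_mem (C.mul_mem (C.inv_mem hyC) (hEC he)) hyC
      have e2 : y⁻¹ * (y * e * y⁻¹) * y = e := by group
      rwa [e2] at this
    have := (hy ⟨e, heC⟩).mpr (mem_subgroupOf.mpr (by simpa using he))
    exact mem_subgroupOf.mp this

/-- the largest `Γ`-invariant subgroup of `C_V(z)` -/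
def core (ρ : Γ →* MulAut V) (z : P) : Subgroup P where
  carrier := {u | ∃ h : u ∈ V, ∀ g, Commute z (ρ g ⟨u, h⟩ : V)}
  one_mem' := ⟨one_mem _, fun g => by
    have : (⟨1, one_mem V⟩ : V) = 1 := rfl
    rw [this, map_one]
    exact Commute.one_right z⟩
  mul_mem' := by
    rintro a b ⟨ha, ha'⟩ ⟨hb, hb'⟩
    refine ⟨mul_mem ha hb, fun g => ?_⟩
    have : (⟨a * b, mul_mem ha hb⟩ : V) = ⟨a, ha⟩ * ⟨b, hb⟩ := rfl
    rw [this, map_mul]
    exact (ha' g).mul_right (hb' g)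
  inv_mem' := by
    rintro a ⟨ha, ha'⟩
    refine ⟨inv_mem ha, fun g => ?_⟩
    have : (⟨a⁻¹, inv_mem ha⟩ : V) = (⟨a, ha⟩ : V)⁻¹ := rfl
    rw [this, map_inv]
    exact (ha' g).inv_right

omit [Finite P] [Finite Γ] in
theorem core_ginv (z : P) : GInv ρ (core ρ z) := by
  rintro g e ⟨h, h'⟩
  refine ⟨SetLike.coe_mem _, fun g' => ?_⟩
  have h1 := h' (g' * g)
  rw [map_mul, MulAut.mul_apply] at h1
  exact h1

/-- **Lemma F, second form.** -/
theorem lemmaF' (c : Cfg p n W A E V ρ H τ) {B : Subgroup P} (hBV : B ≤ V) (hB : AInv A B)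
    {s : normalizer (E : Set P)} (hsE : (s : P) ∉ E)
    (hcent : ∀ g, ∀ u : V, (u : P) ∈ B → Commute (s : P) (ρ g u : V)) : GInv ρ B := by
  refine c.lemmaF (U := core ρ (s : P)) (core_ginv _) ?_ hB hsE ?_
  · intro b hb
    exact ⟨hBV hb, fun g => hcent g ⟨b, hBV hb⟩ hb⟩
  · rintro u ⟨h, h'⟩
    have := h' 1
    rw [map_one] at this
    exact this

end Cfg

end Cfsg.Agent.H786
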