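import Mathlib

/-!
# The trace machine (helper786)

`H < G` strongly embedded with respect to `Q ≤ H`. Relative traces of elements fixed by `H`
(`exists_fixed`), norms of `p`-groups on filtered modules (`nrm_mem`), and multilinear forms.
-/

set_option autoImplicit false

namespace Cfsg.Agent.H786

open Module

section Norm

variable {k : Type*} [CommSemiring k] {G : Type*} [Group G] {Y : Type*} [AddCommGroup Y] [Module k Y]

/-- the norm of the subgroup `Q` -/
noncomputable def nrm (ρ : Representation k G Y) (Q : Subgroup G) (y : Y) : Y :=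
  ∑ᶠ u : Q, ρ (u : G) y

theorem nrm_eq_sum (ρ : Representation k G Y) (Q : Subgroup G) [Fintype Q] (y : Y) :
    nrm ρ Q y = ∑ u : Q, ρ (u : G) y := finsum_eq_sum_of_fintype _

theorem nrm_bot (ρ : Representation k G Y) (y : Y) : nrm ρ (⊥ : Subgroup G) y = y := by
  rw [nrm_eq_sum, Fintype.sum_unique]
  have : ((default : (⊥ : Subgroup G)) : G) = 1 := rfl
  rw [this, map_one, Module.End.one_apply]

/-- **Relative traces.** -/
theorem exists_fixed [Finite G] (ρ : Representation k G Y) {H Q : Subgroup G} (hQH : Q ≤ H)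
    (hfree : ∀ g, g ∉ H → ∀ u ∈ Q, g⁻¹ * u * g ∈ H → u = 1) (N : AddSubgroup Y) (y : Y)
    (hy : ∀ h ∈ H, ρ h y = y) (hN : ∀ g, nrm ρ Q (ρ g y) ∈ N) :
    ∃ z, (∀ g : G, ρ g z = z) ∧ z - y ∈ N := by
  classical
  have := Fintype.ofFinite G
  have hfinQ : Fintype Q := Fintype.ofFinite Q
  have hfinH : Fintype (G ⧸ H) := Fintype.ofFinite _
  -- the function on the cosets
  let f : G ⧸ H → Y := Quotient.lift (s := QuotientGroup.leftRel H) (fun g => ρ g y) (by
    intro a b hab
    have hab' : a⁻¹ * b ∈ H := QuotientGroup.leftRel_apply.mp hab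
    show ρ a y = ρ b y
    have e : b = a * (a⁻¹ * b) := by group
    rw [e, map_mul, Module.End.mul_apply, hy _ hab'])
  have hf : ∀ g : G, f (QuotientGroup.mk g) = ρ g y := fun g => rfl
  have hfs : ∀ (g : G) (x : G ⧸ H), f (g • x) = ρ g (f x) := by
    intro g x
    obtain ⟨a, rfl⟩ := QuotientGroup.mk_surjective x
    rw [MulAction.Quotient.smul_mk, hf, hf, smul_eq_mul, map_mul, Module.End.mul_apply]
  refine ⟨∑ x, f x, ?_, ?_⟩
  · intro g
    rw [map_sum]
    simp_rw [← hfs]
    exact Equiv.sum_comp (MulAction.toPerm g) f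
  · -- free orbits
    have key : ∀ (n : ℕ) (S : Finset (G ⧸ H)), S.card = n → (∀ x ∈ S, ∀ u : Q, (u : G) • x ∈ S) →
        ((QuotientGroup.mk 1 : G ⧸ H) ∉ S) → ∑ x ∈ S, f x ∈ N := by
      intro n
      induction n using Nat.strong_induction_on with
      | _ n ih =>
        intro S hSn hS hS1
        rcases S.eq_empty_or_nonempty with rfl | ⟨x, hx⟩
        · simp
        obtain ⟨a, rfl⟩ := QuotientGroup.mk_surjective x
        have haH : a ∉ H := by
          intro haH
          apply hS1
          have : (QuotientGroup.mk 1 : G ⧸ H) = QuotientGroup.mk a := by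
            rw [QuotientGroup.eq]; simpa using haH
          rw [this]; exact hx
        set O : Finset (G ⧸ H) := Finset.univ.image (fun u : Q => (u : G) • (QuotientGroup.mk a : G ⧸ H))
          with hO
        have hinj : Function.Injective (fun u : Q => (u : G) • (QuotientGroup.mk a : G ⧸ H)) := by
          intro u v huv
          simp only [MulAction.Quotient.smul_mk, smul_eq_mul] at huv
          rw [QuotientGroup.eq] at huv
          have h1 : a⁻¹ * ((u : G)⁻¹ * v) * a ∈ H := by
            have e : a⁻¹ * ((u : G)⁻¹ * v) * a = ((u : G) * a)⁻¹ * (v * a) := by group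
            rw [e]; exact huv
          have h2 := hfree a haH _ (Q.mul_mem (Q.inv_mem u.2) v.2) h1
          exact Subtype.ext (inv_mul_eq_one.mp h2)
        have hOS : O ⊆ S := by
          intro y hy
          rw [hO, Finset.mem_image] at hy
          obtain ⟨u, -, rfl⟩ := hy
          exact hS _ hx u
        have hsumO : ∑ x ∈ O, f x ∈ N := by
          rw [hO, Finset.sum_image (fun u _ v _ h => hinj h)]
          have h1 := hN a
          rw [nrm_eq_sum] at h1
          have h2 : ∀ u : Q, f ((u : G) • (QuotientGroup.mk a : G ⧸ H)) = ρ (u : G) (ρ a y) := by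
            intro u
            rw [hfs, hf]
          simp_rw [h2]
          exact h1
        have hxO : (QuotientGroup.mk a : G ⧸ H) ∈ O := by
          rw [hO, Finset.mem_image]
          exact ⟨1, Finset.mem_univ _, by simp⟩
        have hrest : ∑ x ∈ S \ O, f x ∈ N := by
          apply ih (S \ O).card _ _ rfl
          · intro x hx u
            rw [Finset.mem_sdiff] at hx ⊢
            refine ⟨hS x hx.1 u, fun h => hx.2 ?_⟩
            rw [hO, Finset.mem_image] at h ⊢
            obtain ⟨v, -, hv⟩ := h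
            refine ⟨u⁻¹ * v, Finset.mem_univ _, ?_⟩
            have : ((u⁻¹ * v : Q) : G) • (QuotientGroup.mk a : G ⧸ H)
                = (u : G)⁻¹ • ((v : G) • (QuotientGroup.mk a : G ⧸ H)) := by
              rw [Subgroup.coe_mul, mul_smul]; rfl
            rw [this, hv, inv_smul_smul]
          · intro h
            exact hS1 (Finset.mem_sdiff.mp h).1
          · rw [← hSn]
            apply Finset.card_lt_card
            rw [Finset.ssubset_iff_of_subset Finset.sdiff_subset]
            exact ⟨_, hx, fun h => (Finset.mem_sdiff.mp h).2 hxO⟩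
        rw [← Finset.sum_sdiff hOS]
        exact N.add_mem hrest hsumO
    have h1 : ∑ x, f x - y = ∑ x ∈ Finset.univ.erase (QuotientGroup.mk 1 : G ⧸ H), f x := by
      rw [← Finset.add_sum_erase Finset.univ f (Finset.mem_univ (QuotientGroup.mk 1 : G ⧸ H)), hf,
        map_one, Module.End.one_apply, add_sub_cancel_left]
    rw [h1]
    apply key _ _ rfl
    · intro x hx u
      rw [Finset.mem_erase] at hx ⊢
      refine ⟨fun h => hx.1 ?_, Finset.mem_univ _⟩
      have h2 : x = (u : G)⁻¹ • (QuotientGroup.mk 1 : G ⧸ H) := by rw [← h, inv_smul_smul]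
      rw [h2, MulAction.Quotient.smul_mk, smul_eq_mul, mul_one, QuotientGroup.eq]
      simpa using hQH u.2
    · intro h
      exact (Finset.mem_erase.mp h).1 rfl

end Norm

theorem card_mul_relIdx {G : Type*} [Group G] {K L : Subgroup G} (h : K ≤ L) :
    Nat.card K * K.relIndex L = Nat.card L := by
  have := Subgroup.relIndex_mul_relIndex ⊥ K L bot_le h
  rwa [Subgroup.relIndex_bot_left, Subgroup.relIndex_bot_left] at this

section Step

variable {p : ℕ} [hp : Fact p.Prime] {G : Type*} [Group G] {Y : Type*} [AddCommGroup Y]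
  [Module (ZMod p) Y]

/-- `1 + T + ... + T ^ (p - 1) = (T - 1) ^ (p - 1)` in characteristic `p` -/
theorem geom_eq (T : Module.End (ZMod p) Y) :
    ∑ i ∈ Finset.range p, T ^ i = (T - 1) ^ (p - 1) := by
  have h1 : (∑ i ∈ Finset.range p, (Polynomial.X : Polynomial (ZMod p)) ^ i) =
      (Polynomial.X - 1) ^ (p - 1) := by
    have h2 : (Polynomial.X - 1 : Polynomial (ZMod p)) ≠ 0 := Polynomial.X_sub_C_ne_zero 1
    apply mul_right_cancel₀ h2
    rw [geom_sum_mul, ← pow_succ, Nat.sub_add_cancel hp.out.one_le, sub_pow_char, one_pow]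
  have h3 := congrArg (Polynomial.aeval T) h1
  rw [map_sum, map_pow, map_sub, map_one, Polynomial.aeval_X] at h3
  simp_rw [map_pow, Polynomial.aeval_X] at h3
  exact h3

/-- adding an element to a subgroup in the norm -/
theorem nrm_step [Finite G] (ρ : Representation (ZMod p) G Y) {K L : Subgroup G} (hKL : K ≤ L)
    {x : G} (hx : x ∈ L) (hxK : x ∉ K) (hnorm : ∀ k ∈ K, x * k * x⁻¹ ∈ K)
    (hidx : K.relIndex L = p) (y : Y) : nrm ρ L y = ((ρ x - 1) ^ (p - 1)) (nrm ρ K y) := by
  classical
  have := Fintype.ofFinite G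
  have hfK : Fintype K := Fintype.ofFinite K
  have hfL : Fintype L := Fintype.ofFinite L
  have hnorm' : ∀ i : ℕ, ∀ k ∈ K, x ^ i * k * (x ^ i)⁻¹ ∈ K := by
    intro i
    induction i with
    | zero => intro k hk; simpa using hk
    | succ i ih =>
      intro k hk
      have := ih _ (hnorm k hk)
      have e : x ^ (i + 1) * k * (x ^ (i + 1))⁻¹ = x ^ i * (x * k * x⁻¹) * (x ^ i)⁻¹ := by
        rw [pow_succ]; group
      rw [e]; exact this
  have hnotmem : ∀ m, 0 < m → m < p → x ^ m ∉ K := by
    -- if `x ^ m ∈ K` then `K ⟨x⟩` is too small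
    intro m hm0 hmp hm
    -- consider the subgroup `K ⊔ ⟨x⟩`
    set M : Subgroup G := K ⊔ Subgroup.zpowers x with hM
    have hML : M ≤ L := sup_le hKL (Subgroup.zpowers_le.mpr hx)
    have hKM : K ≤ M := le_sup_left
    have hxnorm : ∀ k, k ∈ K ↔ x * k * x⁻¹ ∈ K := by
      intro k
      refine ⟨hnorm k, fun h => ?_⟩
      have hord := orderOf_pos x
      have h1 := hnorm' (orderOf x - 1) _ h
      have e : x ^ (orderOf x - 1) = x⁻¹ := by
        rw [eq_inv_iff_mul_eq_one, ← pow_succ, Nat.sub_add_cancel hord, pow_orderOf_eq_one]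
      rw [e] at h1
      simpa [mul_assoc] using h1
    have hxN : x ∈ Subgroup.normalizer (K : Set G) := Subgroup.mem_normalizer_iff.mpr hxnorm
    have hMN : M ≤ Subgroup.normalizer (K : Set G) :=
      sup_le Subgroup.le_normalizer (Subgroup.zpowers_le.mpr hxN)
    have hn : (K.subgroupOf M).Normal := Subgroup.normal_subgroupOf_of_le_normalizer hMN
    have h1 : K.relIndex M ∣ p := by
      rw [← hidx]
      exact ⟨M.relIndex L, (Subgroup.relIndex_mul_relIndex K M L hKM hML).symm⟩
    have h2 : K.relIndex M ≠ 1 := by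
      rw [Ne, Subgroup.relIndex_eq_one]
      intro h
      exact hxK (h ((le_sup_right : Subgroup.zpowers x ≤ M) (Subgroup.mem_zpowers x)))
    have h3 : K.relIndex M = p := (Nat.dvd_prime hp.out).mp h1 |>.resolve_left h2
    have hxM : x ∈ M := (le_sup_right : Subgroup.zpowers x ≤ M) (Subgroup.mem_zpowers x)
    have h4 : x ^ p ∈ K := by
      have h5 := Subgroup.pow_index_mem (K.subgroupOf M) (⟨x, hxM⟩ : M)
      have h6 : (K.subgroupOf M).index = p := h3
      rw [h6] at h5
      exact Subgroup.mem_subgroupOf.mp h5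
    -- gcd
    have hcop : Nat.Coprime m p := by
      rw [Nat.coprime_comm]
      exact (Nat.Prime.coprime_iff_not_dvd hp.out).mpr (Nat.not_dvd_of_pos_of_lt hm0 hmp)
    apply hxK
    have h7 := Nat.Coprime.isCoprime hcop
    obtain ⟨u, v, huv⟩ := h7
    have h8 : x = (x ^ m) ^ u * (x ^ p) ^ v := by
      rw [← zpow_natCast x m, ← zpow_natCast x p, ← zpow_mul, ← zpow_mul, ← zpow_add]
      have : (m : ℤ) * u + (p : ℤ) * v = 1 := by rw [← huv]; ring
      rw [this, zpow_one]
    rw [h8]
    exact K.mul_mem (K.zpow_mem hm u) (K.zpow_mem h4 v)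
  -- the bijection
  let F : Fin p × K → L := fun q => ⟨x ^ (q.1 : ℕ) * q.2, L.mul_mem (L.pow_mem hx _) (hKL q.2.2)⟩
  have hFinj : Function.Injective F := by
    rintro ⟨i, k⟩ ⟨j, l⟩ hq
    have h1 : x ^ (i : ℕ) * (k : G) = x ^ (j : ℕ) * l := congrArg Subtype.val hq
    have hij : i = j := by
      by_contra hne
      have hne' : (i : ℕ) ≠ j := fun h => hne (Fin.ext h)
      rcases Nat.lt_or_gt_of_ne hne' with hlt | hlt
      · apply hnotmem (j - i) (by omega) (by have := j.2; omega)
        have e : x ^ ((j : ℕ) - i) = k * (l : G)⁻¹ := by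
          have e1 : x ^ (j : ℕ) = x ^ (i : ℕ) * x ^ ((j : ℕ) - i) := by
            rw [← pow_add]; congr 1; omega
          rw [e1, mul_assoc] at h1
          have h2 := mul_left_cancel h1
          rw [h2, mul_inv_cancel_right]
        rw [e]; exact K.mul_mem k.2 (K.inv_mem l.2)
      · apply hnotmem (i - j) (by omega) (by have := i.2; omega)
        have e : x ^ ((i : ℕ) - j) = l * (k : G)⁻¹ := by
          have e1 : x ^ (i : ℕ) = x ^ (j : ℕ) * x ^ ((i : ℕ) - j) := by
            rw [← pow_add]; congr 1; omega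
          rw [e1, mul_assoc] at h1
          have h2 := mul_left_cancel h1
          rw [← h2, mul_inv_cancel_right]
        rw [e]; exact K.mul_mem l.2 (K.inv_mem k.2)
    subst hij
    exact Prod.ext rfl (Subtype.ext (mul_left_cancel h1))
  have hcard : Fintype.card (Fin p × K) = Fintype.card L := by
    rw [Fintype.card_prod, Fintype.card_fin, ← Nat.card_eq_fintype_card, ← Nat.card_eq_fintype_card,
      ← hidx, mul_comm]
    exact card_mul_relIdx hKL
  have hbij : Function.Bijective F := (Fintype.bijective_iff_injective_and_card F).mpr ⟨hFinj, hcard⟩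
  rw [nrm_eq_sum, nrm_eq_sum, ← geom_eq, LinearMap.sum_apply]
  rw [← Equiv.sum_comp (Equiv.ofBijective F hbij) (fun u : L => ρ (u : G) y), Fintype.sum_prod_type]
  rw [Finset.sum_range]
  apply Finset.sum_congr rfl
  intro i _
  rw [map_sum]
  apply Finset.sum_congr rfl
  intro k _
  show ρ (x ^ (i : ℕ) * (k : G)) y = ((ρ x) ^ (i : ℕ)) (ρ (k : G) y)
  rw [map_mul, map_pow, Module.End.mul_apply]

/-- enlarging the subgroup does not decrease the invariant filtration -/
theorem nrm_mem_of_le {k : Type*} [CommSemiring k] [Module k Y] [Finite G] (ρ : Representation k G Y)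
    {K L : Subgroup G} (hKL : K ≤ L) (N : AddSubgroup Y) (hN : ∀ x ∈ L, ∀ y ∈ N, ρ x y ∈ N) {y : Y}
    (hK : nrm ρ K y ∈ N) : nrm ρ L y ∈ N := by
  classical
  have := Fintype.ofFinite G
  have hfK : Fintype K := Fintype.ofFinite K
  have hfL : Fintype L := Fintype.ofFinite L
  have hfq : Fintype (L ⧸ K.subgroupOf L) := Fintype.ofFinite _
  have e := Subgroup.groupEquivQuotientProdSubgroup (s := K.subgroupOf L)
  have hsum : nrm ρ L y = ∑ q : L ⧸ K.subgroupOf L, ρ ((Quotient.out q : L) : G) (nrm ρ K y) := by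
    rw [nrm_eq_sum, nrm_eq_sum]
    -- the map `(q, k) ↦ out q * k`
    let F : (L ⧸ K.subgroupOf L) × K → L := fun q => (Quotient.out q.1) * ⟨q.2, hKL q.2.2⟩
    have hFinj : Function.Injective F := by
      rintro ⟨q, k⟩ ⟨r, l⟩ h
      have h1 : (Quotient.out q : L) * ⟨k, hKL k.2⟩ = Quotient.out r * ⟨l, hKL l.2⟩ := h
      have h2 : (QuotientGroup.mk (Quotient.out q : L) : L ⧸ K.subgroupOf L) =
          QuotientGroup.mk (Quotient.out r : L) := by
        rw [QuotientGroup.eq]
        have e1 : (Quotient.out q : L)⁻¹ * Quotient.out r = ⟨k, hKL k.2⟩ * (⟨l, hKL l.2⟩ : L)⁻¹ := by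
          have : (Quotient.out r : L) = Quotient.out q * ⟨k, hKL k.2⟩ * (⟨l, hKL l.2⟩ : L)⁻¹ := by
            rw [h1, mul_inv_cancel_right]
          rw [this]; group
        rw [e1, Subgroup.mem_subgroupOf]
        exact K.mul_mem k.2 (K.inv_mem l.2)
      have h3 : q = r := by
        have hq := Quotient.out_eq q
        have hr := Quotient.out_eq r
        rw [← hq, ← hr]; exact h2
      subst h3
      have h4 := mul_left_cancel h1
      have h5 : (k : G) = l := congrArg (fun x : L => (x : G)) h4
      exact Prod.ext rfl (Subtype.ext h5)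
    have hcard : Fintype.card ((L ⧸ K.subgroupOf L) × K) = Fintype.card L := by
      rw [Fintype.card_prod, ← Nat.card_eq_fintype_card, ← Nat.card_eq_fintype_card,
        ← Nat.card_eq_fintype_card, mul_comm]
      exact card_mul_relIdx hKL
    have hbij : Function.Bijective F :=
      (Fintype.bijective_iff_injective_and_card F).mpr ⟨hFinj, hcard⟩
    rw [← Equiv.sum_comp (Equiv.ofBijective F hbij) (fun u : L => ρ (u : G) y),
      Fintype.sum_prod_type]
    apply Finset.sum_congr rfl
    intro q _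
    rw [map_sum]
    apply Finset.sum_congr rfl
    intro k _
    show ρ (((Quotient.out q : L) : G) * (k : G)) y = ρ ((Quotient.out q : L) : G) (ρ (k : G) y)
    rw [map_mul, Module.End.mul_apply]
  rw [hsum]
  exact sum_mem fun q _ => hN _ (SetLike.coe_mem _) _ hK

end Step

/-- Chains of subgroups with jumps. -/
inductive NChain {G : Type*} [Group G] (p : ℕ) (Jmp : G → ℕ → Prop) : Subgroup G → ℕ → Prop
  | bot : NChain p Jmp ⊥ 0
  | step {K L : Subgroup G} {S J : ℕ} {x : G} : NChain p Jmp K S → K ≤ L → x ∈ L → x ∉ K →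
      (∀ k ∈ K, x * k * x⁻¹ ∈ K) → K.relIndex L = p → Jmp x J → NChain p Jmp L (S + J)
  | le {K L : Subgroup G} {S : ℕ} : NChain p Jmp K S → K ≤ L → NChain p Jmp L S

theorem NChain.mono {G : Type*} [Group G] {p : ℕ} {Jmp Jmp' : G → ℕ → Prop}
    (h : ∀ x J, Jmp x J → Jmp' x J) {Q : Subgroup G} {S : ℕ} (hQ : NChain p Jmp Q S) :
    NChain p Jmp' Q S := by
  induction hQ with
  | bot => exact NChain.bot
  | step _ h1 h2 h3 h4 h5 h6 ih => exact NChain.step ih h1 h2 h3 h4 h5 (h _ _ h6)
  | le _ h1 ih => exact NChain.le ih h1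

/-- `(T - 1)` raises the filtration by `J`. -/
def Jump {k Y : Type*} [CommSemiring k] [AddCommGroup Y] [Module k Y] (F : ℕ → AddSubgroup Y)
    (T : Y →ₗ[k] Y) (J : ℕ) : Prop :=
  ∀ c, ∀ y ∈ F c, T y - y ∈ F (c + J)

theorem nrm_mem {p : ℕ} [hp : Fact p.Prime] {G : Type*} [Group G] [Finite G] {Y : Type*}
    [AddCommGroup Y] [Module (ZMod p) Y] (ρ : Representation (ZMod p) G Y)
    (F : ℕ → AddSubgroup Y) {Q : Subgroup G} {S : ℕ} (hQ : NChain p (fun x J => Jump F (ρ x) J) Q S)
    (hinv : ∀ x ∈ Q, Jump F (ρ x) 0) (c : ℕ) (y : Y) (hy : y ∈ F c) :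
    nrm ρ Q y ∈ F (c + (p - 1) * S) := by
  induction hQ with
  | bot => rw [nrm_bot, mul_zero, add_zero]; exact hy
  | @step K L S J x _ hKL hxL hxK hnorm hidx hJ ih =>
    have h1 := ih (fun x hx => hinv x (hKL hx))
    rw [nrm_step ρ hKL hxL hxK hnorm hidx]
    have key : ∀ (i c : ℕ) (w : Y), w ∈ F c → ((ρ x - 1) ^ i) w ∈ F (c + i * J) := by
      intro i
      induction i with
      | zero => intro c w hw; simpa using hw
      | succ i ih =>
        intro c w hw
        rw [pow_succ, Module.End.mul_apply]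
        have h2 : (ρ x - 1) w ∈ F (c + J) := hJ c w hw
        have h3 := ih (c + J) _ h2
        rw [show c + (i + 1) * J = c + J + i * J by ring]
        exact h3
    have h4 := key (p - 1) _ _ h1
    rw [show c + (p - 1) * (S + J) = c + (p - 1) * S + (p - 1) * J by ring]
    exact h4
  | @le K L S _ hKL ih =>
    have h1 := ih (fun x hx => hinv x (hKL hx))
    apply nrm_mem_of_le ρ hKL _ _ h1
    intro x hx w hw
    have h2 := hinv x hx _ w hw
    rw [add_zero] at h2
    have h3 := AddSubgroup.add_mem _ h2 hw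
    rwa [sub_add_cancel] at h3

end Cfsg.Agent.H786
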