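import Cfsg.Agent.H786.CaseA1
import Cfsg.Agent.H786.PureT
import Cfsg.Agent.H467.DegUnif

/-!
# `V` as a module for `Γ`, filtration and jumps (helper786)
-/

set_option autoImplicit false
set_option linter.unusedSectionVars false

namespace Cfsg.Agent.H786

open Subgroup Cfsg.Agent.H467.MaxClass Cfsg.Agent.H785
open scoped commutatorElement

universe u v

/-- the relative index of images divides the relative index -/
theorem relIndex_map_dvd {G G' : Type*} [Group G] [Group G'] (f : G →* G') {H K : Subgroup G}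
    (h : H ≤ K) : (H.map f).relIndex (K.map f) ∣ H.relIndex K := by
  let f' : K →* K.map f := f.subgroupMap K
  have h1 : ((H.subgroupOf K).map f') = (H.map f).subgroupOf (K.map f) := by
    ext ⟨y, hy⟩
    rw [mem_subgroupOf, mem_map, mem_map]
    constructor
    · rintro ⟨⟨x, hx⟩, hxH, hxy⟩
      exact ⟨x, mem_subgroupOf.mp hxH, congrArg Subtype.val hxy⟩
    · rintro ⟨x, hx, hxy⟩
      exact ⟨⟨x, h hx⟩, mem_subgroupOf.mpr hx, Subtype.ext hxy⟩
  have h2 := (H.subgroupOf K).index_map_dvd (f := f') (f.subgroupMap_surjective K)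
  rw [h1] at h2
  exact h2

namespace Cfg

section VM

variable {P : Type u} [Group P] [Finite P] {p n : ℕ} [hp : Fact p.Prime] {W : ℕ → Subgroup P}
  [hW1 : (W 1).Normal] {A : Subgroup (MulAut (W 1))} {E V : Subgroup P} {Γ : Type v} [Group Γ]
  [Finite Γ] {ρ : Γ →* MulAut V} {H : Subgroup Γ} {τ : (normalizer (E : Set P)) →* Γ}

/-- `V` written additively -/
def VM (_ : Cfg p n W A E V ρ H τ) : Type u := Additive V

noncomputable instance instAddCommGroupVM (c : Cfg p n W A E V ρ H τ) : AddCommGroup (VM c) :=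
  letI := c.vComm
  inferInstanceAs (AddCommGroup (Additive V))

/-- from `V` to the additive version -/
def ofV (c : Cfg p n W A E V ρ H τ) (v : V) : VM c := Additive.ofMul v

/-- from the additive version to `V` -/
def toV (c : Cfg p n W A E V ρ H τ) (v : VM c) : V := Additive.toMul v

theorem toV_ofV (c : Cfg p n W A E V ρ H τ) (v : V) : c.toV (c.ofV v) = v := rfl

theorem ofV_toV (c : Cfg p n W A E V ρ H τ) (v : VM c) : c.ofV (c.toV v) = v := rfl

theorem toV_add (c : Cfg p n W A E V ρ H τ) (v w : VM c) : c.toV (v + w) = c.toV v * c.toV w := rfl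

theorem toV_zero (c : Cfg p n W A E V ρ H τ) : c.toV (0 : VM c) = 1 := rfl

theorem toV_neg (c : Cfg p n W A E V ρ H τ) (v : VM c) : c.toV (-v) = (c.toV v)⁻¹ := rfl

theorem toV_sub (c : Cfg p n W A E V ρ H τ) (v w : VM c) :
    c.toV (v - w) = c.toV v * (c.toV w)⁻¹ := by
  rw [sub_eq_add_neg, toV_add, toV_neg]

theorem toV_injective (c : Cfg p n W A E V ρ H τ) : Function.Injective c.toV := fun _ _ h => h

theorem toV_nsmul (c : Cfg p n W A E V ρ H τ) (k : ℕ) (v : VM c) : c.toV (k • v) = c.toV v ^ k := by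
  induction k with
  | zero => rw [zero_smul, toV_zero, pow_zero]
  | succ k ih => rw [succ_nsmul, toV_add, ih, pow_succ]

noncomputable instance instModuleVM (c : Cfg p n W A E V ρ H τ) : Module (ZMod p) (VM c) :=
  AddCommGroup.zmodModule (by
    intro v
    apply c.toV_injective
    rw [toV_nsmul, toV_zero]
    exact Subtype.ext (c.V_pow (c.toV v).2))

theorem toV_smul (c : Cfg p n W A E V ρ H τ) (k : ZMod p) (v : VM c) :
    c.toV (k • v) = c.toV v ^ k.val := by
  rw [← toV_nsmul]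
  congr 1
  rw [← Nat.cast_smul_eq_nsmul (ZMod p), ZMod.natCast_val, ZMod.cast_id', id_eq]

/-- the representation of `Γ` on `V` -/
noncomputable def rep (c : Cfg p n W A E V ρ H τ) : Representation (ZMod p) Γ (VM c) where
  toFun g := AddMonoidHom.toZModLinearMap p
    { toFun := fun v => c.ofV (ρ g (c.toV v))
      map_zero' := map_one (ρ g)
      map_add' := fun v w => map_mul (ρ g) _ _ }
  map_one' := by
    apply LinearMap.ext
    intro v
    show c.ofV (ρ 1 (c.toV v)) = v
    rw [map_one]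
    rfl
  map_mul' g h := by
    apply LinearMap.ext
    intro v
    show c.ofV (ρ (g * h) (c.toV v)) = c.ofV (ρ g (ρ h (c.toV v)))
    rw [map_mul]
    rfl

theorem toV_rep (c : Cfg p n W A E V ρ H τ) (g : Γ) (v : VM c) :
    c.toV (c.rep g v) = ρ g (c.toV v) := rfl

/-- the filtration on `V` starting with `a` -/
noncomputable def fil (c : Cfg p n W A E V ρ H τ) (a k : ℕ) : Submodule (ZMod p) (VM c) :=
  AddSubgroup.toZModSubmodule p
    { carrier := {v | ((c.toV v : V) : P) ∈ W (a + k)}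
      zero_mem' := (W (a + k)).one_mem
      add_mem' := fun {_ _} hv hw => (W (a + k)).mul_mem hv hw
      neg_mem' := fun {_} hv => (W (a + k)).inv_mem hv }

theorem mem_fil (c : Cfg p n W A E V ρ H τ) {a k : ℕ} {v : VM c} :
    v ∈ c.fil a k ↔ ((c.toV v : V) : P) ∈ W (a + k) := Iff.rfl

theorem filData (c : Cfg p n W A E V ρ H τ) {a : ℕ} (hVa : V ≤ W a) (han : a < n) (ι : Type*)
    [Fintype ι] : FilData (M := fun _ : ι => VM c) (fun _ => c.fil a) (fun _ => n - 1 - a) where
  anti _ k k' hk v hv := c.mc.antitone (by omega) hv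
  top _ := by
    rw [eq_top_iff]
    intro v _
    rw [mem_fil, add_zero]
    exact hVa (SetLike.coe_mem _)
  bot _ := by
    rw [eq_bot_iff]
    intro v hv
    rw [mem_fil, c.mc.bot_of_le (by omega), mem_bot] at hv
    exact c.toV_injective (Subtype.ext hv)

theorem toV_rep_τ (c : Cfg p n W A E V ρ H τ) (s : normalizer (E : Set P)) (v : VM c) :
    ((c.toV (c.rep (τ s) v - v) : V) : P) = ⁅(s : P), ((c.toV v : V) : P)⁆ := by
  rw [toV_sub, toV_rep, Subgroup.coe_mul, c.ρτ, Subgroup.coe_inv, commutatorElement_def]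

theorem jumpAll (c : Cfg p n W A E V ρ H τ) {a J : ℕ} {s : normalizer (E : Set P)}
    (hs : ∀ i, a ≤ i → ∀ v ∈ W i, ⁅(s : P), v⁆ ∈ W (i + J)) (ι : Type*) [Fintype ι] :
    JumpAll (M := fun _ : ι => VM c) (fun _ => c.rep) (fun _ => c.fil a) (τ s) J := by
  intro _ k v hv
  rw [mem_fil, toV_rep_τ, ← add_assoc]
  exact hs _ (Nat.le_add_right a k) _ hv

theorem jumpAll_zero (c : Cfg p n W A E V ρ H τ) {a : ℕ} (ι : Type*) [Fintype ι] :
    ∀ x ∈ τ.range, JumpAll (M := fun _ : ι => VM c) (fun _ => c.rep) (fun _ => c.fil a) x 0 := by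
  rintro _ ⟨s, rfl⟩
  apply c.jumpAll
  intro i _ v hv
  exact c.mc.antitone (Nat.le_succ i) (c.mc.comm_mem' hv)

/-- the image of `W j` in `Γ` -/
def Kj (W : ℕ → Subgroup P) (E : Subgroup P) (τ : (normalizer (E : Set P)) →* Γ) (j : ℕ) :
    Subgroup Γ := ((W j).subgroupOf (normalizer (E : Set P))).map τ

theorem Kj_bot (c : Cfg p n W A E V ρ H τ) {j : ℕ} (hj : W j ≤ E) : Kj W E τ j = ⊥ := by
  rw [eq_bot_iff]
  rintro _ ⟨s, hs, rfl⟩
  exact (c.ker s).mpr (hj (mem_subgroupOf.mp hs))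

/-- one step of the chain -/
theorem nchain_step (c : Cfg p n W A E V ρ H τ) {Jmp : Γ → ℕ → Prop} {j S J : ℕ} (hjn : j < n)
    (hT : W j ≤ normalizer (E : Set P)) (hc : NChain p Jmp (Kj W E τ (j + 1)) S)
    {z : normalizer (E : Set P)} (hz : (z : P) ∈ W j) (hz' : ∀ e ∈ E, (z : P) * e ∉ W (j + 1))
    (hJ : Jmp (τ z) J) : NChain p Jmp (Kj W E τ j) (S + J) := by
  have hle : (W (j + 1)).subgroupOf (normalizer (E : Set P)) ≤
      (W j).subgroupOf (normalizer (E : Set P)) := Subgroup.comap_mono (c.mc.le_succ j)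
  have hnot : τ z ∉ Kj W E τ (j + 1) := by
    rintro ⟨s, hs, hsz⟩
    have h1 : τ (z⁻¹ * s) = 1 := by rw [map_mul, map_inv, hsz, inv_mul_cancel]
    have h2 := (c.ker _).mp h1
    apply hz' _ h2
    rw [Subgroup.coe_mul, Subgroup.coe_inv, mul_inv_cancel_left]
    exact mem_subgroupOf.mp hs
  refine NChain.step hc (map_mono hle) ⟨z, mem_subgroupOf.mpr hz, rfl⟩ hnot ?_ ?_ hJ
  · rintro _ ⟨s, hs, rfl⟩
    refine ⟨z * s * z⁻¹, ?_, by rw [map_mul, map_mul, map_inv]⟩
    show (z * s * z⁻¹ : normalizer (E : Set P)) ∈ (W (j + 1)).subgroupOf _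
    rw [mem_subgroupOf]
    exact c.mc.conj_mem (mem_subgroupOf.mp hs) _
  · have h1 : (Kj W E τ (j + 1)).relIndex (Kj W E τ j) ∣ p := by
      refine (relIndex_map_dvd τ hle).trans ?_
      rw [Subgroup.relIndex_subgroupOf hT, c.mc.relIndex j hjn]
    rcases (Nat.dvd_prime hp.out).mp h1 with h2 | h2
    · rw [Subgroup.relIndex_eq_one] at h2
      exact absurd (h2 ⟨z, mem_subgroupOf.mpr hz, rfl⟩) hnot
    · exact h2

end VM

end Cfg

end Cfsg.Agent.H786
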